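import Cfsg.Agent.H3.Ore.Fi22Prime
import Cfsg.Agent.H3.Ore.Fi22Nine
import Cfsg.Agent.H3.Ore.Fi22Two
import Cfsg.Agent.H834.Bridge

/-!
# `Fi22`: every element is a commutator, up to the elements whose 3-part has order 3 (helper3)

`ore_of` : if `t * s` is a commutator for every `s` of order 3 and every 2-element `t ≠ 1` commuting with `s`, then every
element of `Fi22` is a commutator.
-/

set_option autoImplicit false
set_option linter.style.longLine false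
set_option maxRecDepth 4000

namespace Cfsg.Agent.H3.Ore.FAsm

open Cfsg Cfsg.Spor
open Cfsg.Agent.H777.Ore (IsC AllC)
open Cfsg.Agent.H834 Cfsg.Agent.H836 Cfsg.Agent.KFacts.FiTT

/-- the 2-part and the 3-part -/
theorem split {G : Type*} [Group G] {x : G} {a b : ℕ} (hx : x ^ (2 ^ a * 3 ^ b) = 1) :
    ∃ t s : G, x = t * s ∧ s * t = t * s ∧ t ^ 2 ^ a = 1 ∧ s ^ 3 ^ b = 1 := by
  have hc : IsCoprime ((2 ^ a : ℕ) : ℤ) ((3 ^ b : ℕ) : ℤ) :=
    Nat.isCoprime_iff_coprime.2 (Nat.Coprime.pow _ _ (by norm_num))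
  obtain ⟨u, v, huv⟩ := hc
  have hx' : x ^ ((2 ^ a * 3 ^ b : ℕ) : ℤ) = 1 := by rw [zpow_natCast, hx]
  refine ⟨x ^ (v * ((3 ^ b : ℕ) : ℤ)), x ^ (u * ((2 ^ a : ℕ) : ℤ)), ?_, ?_, ?_, ?_⟩
  · rw [← zpow_add, add_comm, huv, zpow_one]
  · rw [← zpow_add, ← zpow_add, add_comm]
  · rw [← zpow_natCast, ← zpow_mul]
    calc x ^ (v * ((3 ^ b : ℕ) : ℤ) * ((2 ^ a : ℕ) : ℤ)) = x ^ (((2 ^ a * 3 ^ b : ℕ) : ℤ) * v) := by
          congr 1; push_cast; ring
      _ = 1 := by rw [zpow_mul, hx', one_zpow]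
  · rw [← zpow_natCast, ← zpow_mul]
    calc x ^ (u * ((2 ^ a : ℕ) : ℤ) * ((3 ^ b : ℕ) : ℤ)) = x ^ (((2 ^ a * 3 ^ b : ℕ) : ℤ) * u) := by
          congr 1; push_cast; ring
      _ = 1 := by rw [zpow_mul, hx', one_zpow]

/-- a divisor of the order without 5, 7, 11, 13 -/
theorem two_three {n : ℕ} (h : n ∣ 64561751654400) (h5 : ¬ 5 ∣ n) (h7 : ¬ 7 ∣ n) (h11 : ¬ 11 ∣ n) (h13 : ¬ 13 ∣ n) :
    n ∣ 2 ^ 17 * 3 ^ 9 := by
  have e : 64561751654400 = (2 ^ 17 * 3 ^ 9) * (5 ^ 2 * (7 * (11 * 13))) := by norm_num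
  rw [e] at h
  have c5 : Nat.Coprime n (5 ^ 2) := (Nat.Coprime.pow_left 2 ((Nat.Prime.coprime_iff_not_dvd (by norm_num)).2 h5)).symm
  have c7 : Nat.Coprime n 7 := ((Nat.Prime.coprime_iff_not_dvd (by norm_num)).2 h7).symm
  have c11 : Nat.Coprime n 11 := ((Nat.Prime.coprime_iff_not_dvd (by norm_num)).2 h11).symm
  have c13 : Nat.Coprime n 13 := ((Nat.Prime.coprime_iff_not_dvd (by norm_num)).2 h13).symm
  exact (c5.mul_right (c7.mul_right (c11.mul_right c13))).dvd_of_dvd_mul_right h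

theorem ore_of (h3 : ∀ {s t : Fi22} {e : ℕ}, s ^ 3 = 1 → s ≠ 1 → t ^ 2 ^ e = 1 → t ≠ 1 → s * t = t * s → IsC (t * s)) :
    AllC Fi22 := by
  let e : Fi22 ≃* Fi22 := MulEquiv.refl _
  have I := inv_of_iso e
  have hfin := I.ctx.finite
  obtain ⟨m⟩ := Bridge.model_of_iso (D := TK e) e rfl
  intro x
  by_cases h5 : 5 ∣ orderOf x
  · exact m.isC_five e h5
  by_cases h7 : 7 ∣ orderOf x
  · exact m.isC_seven e h7
  by_cases h11 : 11 ∣ orderOf x
  · exact m.isC_eleven e h11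
  by_cases h13 : 13 ∣ orderOf x
  · exact m.isC_thirteen e h13
  have h1 : orderOf x ∣ 64561751654400 := by
    rw [← I.ctx.card]; exact orderOf_dvd_natCard x
  obtain ⟨t, s, rfl, hst, ht, hs⟩ := split (orderOf_dvd_iff_pow_eq_one.1 (two_three h1 h5 h7 h11 h13))
  by_cases hs3 : s ^ 3 = 1
  · by_cases hs1 : s = 1
    · rw [hs1, mul_one]
      exact FTwo.isC_two ht
    · by_cases ht1 : t = 1
      · rw [ht1, one_mul]
        exact (m.cls_three hs).1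
      · exact h3 hs3 hs1 ht ht1 hst
  · exact m.isC_nine I ht hs hs3 hst

end Cfsg.Agent.H3.Ore.FAsm
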