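import Cfsg.Agent.H834.AGrp
import Cfsg.Agent.H777.Ore.Base

/-!
# `Fi22`: commutators given by words (helper3)

`crt y g a b = true` : the word `y`, conjugated by the word `g`, is the commutator of the words `a`, `b` (agreement of
permutations on a base).
-/

set_option autoImplicit false
set_option maxRecDepth 100000
set_option exponentiation.threshold 5000
set_option linter.style.longLine false

namespace Cfsg.Agent.H3.Ore.FC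

open Cfsg.Spor Cfsg.Spor.Fi22 Cfsg.Agent.Lib.PermNet Cfsg.Agent.Lib.PermNetOrbit Cfsg.Agent.Lib.PermNetFix
open Cfsg.Agent.Fischer Cfsg.Agent.Fischer.Fi22PtsRep
open Cfsg.Agent.H834 Cfsg.Agent.H834.AC

/-- the check -/
noncomputable def crt (y g a b : List Gen) : Bool :=
  eqB (g ++ (y ++ g.reverse)) (a ++ (b ++ (a.reverse ++ b.reverse)))

/-- conjugation check: `g y g⁻¹ = c` -/
noncomputable def cnj (g y c : List Gen) : Bool := eqB (g ++ (y ++ g.reverse)) c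

def wp5_0 : List Gen := [.a, .b, .c, .d]

theorem cp5_0 : crt wp5_0 [.c] [.c, .d, .b] [.a, .d] = true := by
  decide +kernel

def wp5_1 : List Gen := [.a, .b, .c, .d, .g]

theorem cp5_1 : crt wp5_1 [.d, .c, .b, .a, .h, .d, .c, .e, .h, .c, .a, .d, .e, .h, .f, .b, .c, .e, .d, .b, .h, .a, .b, .f, .c, .e, .a, .d, .b, .c, .h, .i, .e, .a, .d, .b, .a, .g, .c, .b, .f, .i, .f, .h, .e, .d, .e, .f, .h, .i] [.e, .d, .c, .a, .g] [.h, .d, .b] = true := by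
  decide +kernel

def wp5_2 : List Gen := [.a, .b, .c, .d, .g, .i]

theorem cp5_2 : crt wp5_2 [.c, .d, .i, .h, .d, .g, .f] [.f, .c, .d, .h, .e, .f, .b] [.i, .d, .h, .a, .e] = true := by
  decide +kernel

def wp5_3 : List Gen := [.a, .b, .c, .d, .g, .f]

theorem cp5_3 : crt wp5_3 [.b, .g] [.g, .d, .f, .a] [.b, .c, .g] = true := by
  decide +kernel

def wp5_4 : List Gen := [.a, .b, .c, .d, .g, .f, .h, .d, .e, .c, .d, .h, .i, .b, .c, .d, .h, .e, .d, .c, .b, .a, .b, .c, .d, .e, .h, .d, .c, .b, .i, .h, .d, .c, .e, .d, .h]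

theorem cp5_4 : crt wp5_4 [.g, .f, .h, .e, .d, .e, .f, .h, .c, .a, .d, .i, .h, .f, .i, .e, .d, .g, .c, .b, .a, .f, .h, .e, .d, .a, .c, .b, .c, .d, .i, .d, .e, .g, .a, .f, .b, .d, .e, .f, .e, .h, .c, .i, .h, .e, .d, .e, .h, .d, .f, .i, .e, .h, .c, .d, .b, .g, .i, .a, .c, .b, .d, .f, .g, .e, .d, .f, .e, .f, .b, .c, .g, .a, .b, .d, .a, .e, .i, .h, .c, .b, .d, .a, .e, .c, .f, .b, .a, .h, .b, .d, .e, .c, .b, .f, .h, .e, .d, .a, .c] [.b, .g, .c, .d, .c, .i, .d] [.e, .f, .g, .h, .d, .c] = true := by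
  decide +kernel

def wp5_5 : List Gen := [.a, .b, .c, .d, .g, .f, .h, .d, .e, .c, .d, .h, .i, .b, .c, .d, .h, .e, .d, .c, .b, .a, .b, .c, .d, .e, .h, .d, .c, .b, .i, .h, .d, .c, .e, .d, .h, .i]

theorem cp5_5 : crt wp5_5 [.i, .g, .f, .h, .e, .d, .e, .f, .h, .i, .g, .a, .d, .f, .e, .h, .d, .c, .b, .f, .h, .e, .d, .e, .f, .h, .g, .a, .c, .b, .i, .f, .h, .e, .d, .e, .f, .h, .i, .h, .f, .a, .c, .b, .d, .h, .f, .e, .f, .c, .d, .c, .h, .b, .e, .a, .f, .h, .a, .g, .f, .h, .i, .d, .e, .d, .h, .d, .g, .d, .b, .c, .e, .a, .b, .h, .f, .g, .h, .d, .c, .e, .d, .h, .i, .d, .e, .c, .d, .h, .g, .f, .h, .b, .a, .e, .c, .b, .d, .c, .e, .d, .h, .f, .e, .d, .c, .g, .f, .e, .c, .d, .b, .c, .e, .a, .b, .h, .f, .g, .h, .d, .c, .e, .d, .h, .i, .d, .e, .c, .d, .h, .g, .f, .h, .b, .a, .e, .c, .b, .d, .c, .h, .e, .d, .e, .h, .d, .i, .d, .h, .i, .e, .f, .h,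 .e, .d, .e, .h, .d, .f, .b, .c, .g, .a, .b, .d, .a, .e, .i, .h, .c, .b, .d, .a, .e, .c, .f, .b, .a, .h, .b, .d, .e, .c, .b, .f, .h, .e, .d, .a, .c, .f, .e, .h] [.e, .c] [.e, .d, .f] = true := by
  decide +kernel

def wp5_6 : List Gen := [.a, .b, .c, .d, .g, .f, .i]

theorem cp5_6 : crt wp5_6 [.e, .d, .c, .b, .c, .d, .e, .h, .d, .h, .b, .c, .a, .d, .e, .b, .c, .a, .b, .h, .d, .h, .e, .c, .i, .d, .c, .f, .e, .b, .a, .c, .b, .c, .d, .a, .h, .e, .d, .c, .e, .d, .f, .g, .c, .d, .b, .c, .e, .a, .b, .h, .f, .g, .h, .d, .c, .e, .d, .i, .h, .i, .h, .d, .e, .c, .d, .h, .g, .f, .h, .b, .a, .e, .c, .b, .d, .c, .h, .d, .h, .e, .d, .e, .f, .h, .g, .f, .h, .e, .d, .e, .f, .h, .i, .g] [.b, .a, .c, .b, .i, .c, .h, .d, .h, .f, .i] [.e, .i, .b, .e, .c, .i, .d, .i, .c, .e, .g, .d] = true := by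
  decide +kernel

def wp7_0 : List Gen := [.a, .b, .c, .d, .h, .i]

theorem cp7_0 : crt wp7_0 [.b, .h] [.a, .h, .d] [.b, .c, .i, .a] = true := by
  decide +kernel

def wp7_1 : List Gen := [.a, .b, .c, .d, .h, .i, .g]

theorem cp7_1 : crt wp7_1 [.b, .a, .c, .b, .i, .g, .f, .e, .h, .d, .c, .e, .c, .d, .e, .h, .a, .d, .c, .b, .c, .a, .b, .d, .h, .e, .d, .e, .h, .c, .b, .e, .d, .e, .c, .h, .i, .d, .a, .c, .b, .d, .h, .e, .d, .c, .d, .e, .h, .d, .c, .b, .c, .a, .b, .d, .h, .e, .d, .e, .h, .c, .d, .e, .h, .b, .d, .c, .b, .a, .b] [.i, .f, .d, .b, .e] [.g, .h, .f, .c, .b, .a] = true := by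
  decide +kernel

def wp7_2 : List Gen := [.a, .b, .c, .d, .h, .i, .g, .f]

theorem cp7_2 : crt wp7_2 [.b, .c, .i] [.d, .f, .a, .h, .c, .i] [.g, .h, .c, .b] = true := by
  decide +kernel

def wp11 : List Gen := [.a, .c, .g, .e, .d, .f, .b, .h, .c, .d, .i]

theorem cp11 : crt wp11 [.a, .i, .h, .e, .h, .g, .d, .f, .h, .e, .d, .c, .b, .h, .c, .d, .a, .e, .i, .h, .d, .c, .e, .f, .e, .i, .h, .i, .d, .c, .d, .g, .f, .e, .h, .d, .a, .d, .e, .h, .f, .b, .c, .e, .d, .b, .h, .a, .b, .f, .c, .e, .a, .d, .b, .c, .h, .i, .e, .a, .d, .b, .a, .g, .c, .b, .f, .e, .d, .h, .i, .g, .f, .h, .e, .d, .e, .f, .h, .i, .g, .f, .h, .c, .d, .e, .g, .h, .d, .c, .a, .d, .f, .e, .i, .h, .e, .d, .e, .h, .d, .g, .c, .d, .b, .c, .e, .a, .b, .h, .f, .g, .h, .d, .c, .e, .d, .h, .i, .d, .e, .c, .d, .h, .g, .f, .h, .b, .a, .e, .c, .b, .d, .c, .i, .f, .h, .e, .d, .e,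 .f, .h, .g, .f, .h, .e, .d, .e, .f, .h, .i, .g] [.a, .h, .d, .f, .h, .g, .c, .d, .f, .e, .f] [.d, .a, .f, .b, .c, .i] = true := by
  decide +kernel

def wk0 : List Gen := [.b, .c, .d, .h, .i, .e, .d, .h, .f, .e, .d, .c, .d, .e, .f, .h, .d, .e, .i, .h, .d, .c, .e, .d, .h, .i, .c, .d, .h, .f, .e, .d, .c, .b, .c, .d, .e, .f, .h, .d, .c, .i, .h, .d, .h, .i, .d, .e, .c, .d, .h, .f, .e, .d, .c, .b, .c, .d, .e, .f, .h, .d, .c, .e, .d, .i]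

theorem ck0 : crt wk0 [.b, .c, .i, .a, .d, .h, .e, .d, .h, .g, .c, .g, .f, .c, .d, .a, .h, .b, .c, .a, .d, .e, .b, .h, .d, .h, .g, .c, .d, .e, .f, .a, .b, .h, .c, .d, .c, .a, .b, .c, .g, .h, .d, .i, .h, .f, .h, .e, .d, .e, .c, .d, .e, .h, .a, .d, .c, .b, .c, .a, .b, .d, .h, .e, .d, .e, .h, .c, .b, .e, .d, .e, .c, .h, .i, .d, .a, .c, .b, .c, .d, .h, .i, .a, .e, .d, .b, .c, .a, .i, .g, .b, .d, .c, .h, .e, .d, .c, .h, .a, .g, .e, .d, .i, .b, .f, .c, .a, .b, .h, .e, .d, .e, .h, .f, .i, .h, .e, .d, .e, .h, .d, .i, .g, .f, .h, .e, .d, .e, .f, .h, .i, .g] [.c, .h, .c, .i, .c, .d, .e, .c, .h, .e, .d, .c, .a, .i] [.d, .e, .i, .a, .d, .i, .g, .f, .g, .a, .e, .i, .e, .a, .e, .i, .f, .e, .g, .i] = true := by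
  decide +kernel

def wk1 : List Gen := [.b, .c, .d, .h, .i, .e, .d, .h, .f, .e, .d, .c, .d, .e, .f, .h, .d, .e, .i, .h, .d, .c]

theorem ck1 : crt wk1 [.e, .d, .c, .e, .d, .f, .e, .d, .i, .g, .f, .h, .e, .d, .e, .f, .h, .i, .g, .f, .g, .c, .d, .e, .a, .f, .e, .b, .c, .e, .a, .d, .b, .e, .h, .f, .c, .g, .f, .h, .e, .d, .e, .f, .h, .i, .c, .g, .d, .e, .h, .d, .e, .c, .b, .a, .e, .d, .f, .e, .g, .d, .b, .c, .b, .f, .c, .e, .a, .d, .c, .f, .b, .g] [.b, .c] [.e, .d] = true := by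
  decide +kernel

def wk2 : List Gen := [.b, .c, .d, .h, .i, .e, .d, .h, .f, .e, .d, .c, .d, .e, .f, .h, .d, .e, .i, .h, .d, .c, .e, .d, .h, .i, .c, .d, .h, .f, .e, .d, .c, .b, .c, .d, .e, .f, .h, .d, .c, .i, .h, .d]

theorem ck2 : crt wk2 [.f, .b, .i, .h, .e, .d, .c, .b, .e, .d, .h, .f, .e, .d, .c, .e, .a, .i, .h, .d, .c, .h, .d, .i, .h, .c, .d, .e, .a, .h, .b, .c, .b, .a, .d, .g, .b, .c, .h, .b, .d, .e, .d, .h, .c, .f, .g, .b, .d, .e, .c, .a, .c, .b, .c, .b, .e, .d, .i, .h, .d, .e, .g, .c, .d, .b, .c, .e, .a, .b, .h, .f, .g, .h, .d, .c, .e, .d, .h, .i, .d, .e, .c, .d, .h, .g, .f, .h, .b, .a, .e, .c, .b, .d, .c] [.h, .g, .f] [.f, .d] = true := by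
  decide +kernel

def wr1_0 : List Gen := [.c, .d]

theorem cr1_0 : crt wr1_0 [.d] [.c, .a] [.a, .d, .h] = true := by
  decide +kernel

def wr1_110 : List Gen := [.b, .c, .d, .h, .i, .e, .d, .h, .f, .e, .d, .c, .d, .e, .f, .h, .d, .e, .i, .h, .d, .c, .b, .c, .d, .h, .i, .e, .d, .h, .f, .e, .d, .c, .d, .e, .f, .h, .d, .e, .i, .h, .d, .c, .e, .d, .h, .i, .c, .d, .h, .f, .e, .d, .c, .b, .c, .d, .e, .f, .h, .d, .c, .i, .h, .d, .h, .i, .d, .e, .c, .d, .h, .f, .e, .d, .c, .b, .c, .d, .e, .f, .h, .d, .c, .e, .d, .i, .c, .d]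

theorem cr1_110 : crt wr1_110 [.a, .f, .e, .d, .g, .f, .e, .h, .d, .c, .b, .g, .c, .d, .b, .c, .e, .a, .b, .h, .f, .g, .h, .d, .c, .e, .d, .i, .h, .d, .e, .c, .d, .h, .g, .f, .h, .b, .a, .e, .c, .b, .d, .c, .i, .d, .h, .f, .e, .d, .c, .a, .c, .a, .d, .e, .h, .f, .b, .c, .e, .d, .b, .h, .a, .b, .f, .c, .e, .a, .d, .b, .c, .h, .i, .e, .a, .d, .b, .a, .g, .c, .b, .f, .h, .d, .i, .h, .f, .g, .c, .d, .b, .c, .e, .a, .b, .h, .f, .g, .h, .d, .c, .e, .d, .i, .h, .d, .e, .c, .d, .h, .g, .f, .h, .b, .a, .e, .c, .b, .d, .c, .e, .d, .i, .h, .d, .e, .f, .h, .e, .d, .e, .f, .h] [.i, .g, .a] [.h, .b, .a, .f] = true := by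
  decide +kernel

def wr1_28 : List Gen := [.b, .c, .d, .h, .i, .e, .d, .h, .f, .e, .d, .c, .d, .e, .f, .h, .d, .e, .i, .h, .d, .c, .e, .d, .h, .i, .c, .d, .h, .f, .e, .d, .c, .b, .c, .d, .e, .f, .h, .d, .c, .i, .h, .d, .c, .d]

theorem cr1_28 : crt wr1_28 [.d, .c, .b, .e, .d, .f, .h, .f, .b, .c, .g, .a, .b, .d, .a, .e, .i, .h, .c, .b, .d, .a, .e, .c, .f, .b, .a, .h, .b, .d, .e, .c, .b, .f, .h, .e, .d, .a, .c, .e, .i, .h, .c, .d, .h, .e, .b, .c, .e, .a, .b, .h, .f, .g, .h, .d, .c, .e, .d, .i, .h, .d, .e, .c, .d, .h, .g, .f, .h, .b, .a, .e, .c, .b, .d, .c, .h, .i, .d, .h, .e, .d, .c, .d, .e, .h, .d, .c, .b, .c, .a, .b, .d, .h, .e, .d, .e, .h, .c, .d, .e, .h, .b, .d, .c, .b, .a, .b] [.h, .a, .b] [.c, .i] = true := by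
  decide +kernel

def wr2_0 : List Gen := [.e, .f, .h, .i]

theorem cr2_0 : crt wr2_0 [.e, .f, .g] [.i, .g] [.h, .f] = true := by
  decide +kernel

def wr2_1 : List Gen := [.b, .c, .d, .h, .i, .e, .d, .h, .f, .e, .d, .c, .d, .e, .f, .h, .d, .e, .i, .h, .d, .c, .e, .f, .h, .i]

theorem cr2_1 : crt wr2_1 [.a, .d, .b, .c, .e, .a, .b, .h, .f, .g, .h, .d, .c, .e, .d, .i, .h, .d, .e, .c, .d, .h, .g, .f, .h, .b, .a, .e, .c, .b, .d, .c, .h, .c, .d, .b, .c, .e, .a, .b, .h, .f, .g, .h, .d, .c, .e, .d, .i, .h, .d, .e, .c, .d, .h, .g, .f, .h, .b, .a, .e, .c, .b, .d, .c] [.a, .f, .e, .b, .h] [.f, .i, .c] = true := by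
  decide +kernel

def wr2_27 : List Gen := [.e, .d, .h, .i, .c, .d, .h, .f, .e, .d, .c, .b, .c, .d, .e, .f, .h, .d, .c, .i, .h, .d, .e, .f, .h, .i]

theorem cr2_27 : crt wr2_27 [.c, .b, .g, .e, .d, .f, .e, .c, .h, .d, .i, .h, .g, .e, .d, .c, .i, .e, .a, .d, .f, .e, .f, .h, .e, .d, .e, .f, .h, .i] [.a, .i, .f] [.h, .b] = true := by
  decide +kernel

def wr2_28 : List Gen := [.b, .c, .d, .h, .i, .e, .d, .h, .f, .e, .d, .c, .d, .e, .f, .h, .d, .e, .i, .h, .d, .c, .e, .d, .h, .i, .c, .d, .h, .f, .e, .d, .c, .b, .c, .d, .e, .f, .h, .d, .c, .i, .h, .d, .e, .f, .h, .i]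

theorem cr2_28 : crt wr2_28 [.d, .c, .b, .i, .f, .h, .e, .d, .e, .f, .h, .i, .c, .h, .d, .i, .h, .g, .e, .d, .c, .i, .e, .c, .b, .e, .i, .f, .c, .g, .a, .f, .h, .d, .b, .c, .b, .h, .e, .d, .h, .c, .e, .b, .d, .a, .f, .c, .b, .f, .h, .e, .d, .a, .c, .e, .f, .d, .e, .g, .c, .d, .b, .c, .e, .a, .b, .h, .f, .g, .h, .d, .c, .e, .d, .i, .h, .d, .e, .c, .d, .h, .g, .f, .h, .b, .a, .e, .c, .b, .d, .c, .i, .h, .e, .d, .e, .h, .d, .i, .f, .h, .e, .d, .e, .f, .h, .i] [.a, .h, .g] [.b, .f, .i] = true := by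
  decide +kernel

def wr2_54 : List Gen := [.e, .d, .h, .i, .c, .d, .h, .f, .e, .d, .c, .b, .c, .d, .e, .f, .h, .d, .c, .i, .h, .d, .e, .d, .h, .i, .c, .d, .h, .f, .e, .d, .c, .b, .c, .d, .e, .f, .h, .d, .c, .i, .h, .d, .e, .f, .h, .i]

theorem cr2_54 : crt wr2_54 [.b, .d, .b, .i, .a, .f, .e, .c, .d, .f, .a, .e, .h, .d, .c, .d, .i, .h, .d] [.b, .f] [.c, .e] = true := by
  decide +kernel

def wr2_55 : List Gen := [.b, .c, .d, .h, .i, .e, .d, .h, .f, .e, .d, .c, .d, .e, .f, .h, .d, .e, .i, .h, .d, .c, .e, .d, .h, .i, .c, .d, .h, .f, .e, .d, .c, .b, .c, .d, .e, .f, .h, .d, .c, .i, .h, .d, .e, .d, .h, .i, .c, .d, .h, .f, .e, .d, .c, .b, .c, .d, .e, .f, .h, .d, .c, .i, .h, .d, .e, .f, .h, .i]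

theorem cr2_55 : crt wr2_55 [.c, .d, .b, .c, .e, .a, .b, .h, .f, .g, .h, .d, .c, .e, .d, .i, .h, .d, .e, .c, .d, .h, .g, .f, .h, .b, .a, .e, .c, .b, .d, .c, .g, .f, .h, .e, .d, .e, .f, .c, .d, .a, .e, .i, .h, .d, .c, .e, .f, .e, .i, .h, .i, .d, .c, .g, .f, .e, .h, .c, .d, .e, .h, .i, .b, .c, .d, .e, .g, .f, .b, .h, .d, .a, .g, .c, .h, .b, .c, .i, .g, .f, .a, .d, .e, .h, .f, .d, .i, .b, .h, .c, .d, .b, .c, .b, .c, .d, .a, .h, .b, .c, .a, .d, .e, .b, .h, .d, .h, .g, .c, .d, .e, .f, .a, .b, .h, .c, .d, .c, .a, .b, .c, .g, .h, .e, .d, .e, .h, .c, .d, .b, .c, .e, .a, .b, .h, .f, .g, .h, .d, .c, .e, .d, .i, .h, .d, .e, .c, .d, .h, .g, .f, .h, .b, .a, .e, .c, .b, .d, .c, .i, .d, .h, .i, .e, .f, .h, .e, .d, .e, .h, .d, .f, .b, .c, .g, .a, .b, .d, .a, .e, .i, .h, .c, .b, .d, .a, .e, .c, .f, .b, .a, .h, .b, .d, .e, .c, .b, .f, .h, .e, .d,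 .a, .c, .f, .e, .h] [.h, .a, .e, .c, .d, .c, .h, .d, .e, .i, .d, .h, .d, .g, .a] [.g, .b, .h, .c, .d, .b, .i, .h, .g, .d, .i] = true := by
  decide +kernel

def wr4_0 : List Gen := [.c, .d, .c, .e, .d, .c, .f, .e, .h, .d, .c, .e, .d, .f, .h, .i, .h, .d, .c, .e, .d, .f, .h, .i]

theorem cr4_0 : crt wr4_0 [.b, .f, .e, .f, .h, .c, .d, .i, .e, .h, .f, .d, .c, .b, .g, .d, .g, .f, .e, .h, .c, .d, .e, .f, .h, .d, .b, .c, .f, .a, .d, .b, .e, .c, .h, .d, .c, .a, .e, .b, .h, .a, .d, .i, .c, .b, .h, .a, .e, .h, .e, .d, .e, .h, .i] [.c, .h, .c, .i, .c, .d, .e, .c, .h, .e, .d, .c, .a, .i] [.d, .e, .i, .a, .d, .i, .g, .f, .g, .a, .e, .i, .e, .a, .e, .i, .f, .e, .g, .i] = true := by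
  decide +kernel

def wr4_1 : List Gen := [.b, .c, .d, .h, .i, .e, .d, .h, .f, .e, .d, .c, .d, .e, .f, .h, .d, .e, .i, .h, .d, .c, .c, .d, .c, .e, .d, .c, .f, .e, .h, .d, .c, .e, .d, .f, .h, .i, .h, .d, .c, .e, .d, .f, .h, .i]

theorem cr4_1 : crt wr4_1 [.d, .e] [.i, .c, .f] [.h, .b, .e] = true := by
  decide +kernel

def wr4_10 : List Gen := [.b, .c, .d, .h, .i, .e, .d, .h, .f, .e, .d, .c, .d, .e, .f, .h, .d, .e, .i, .h, .d, .c, .d, .h, .i, .e, .c, .d, .h, .f, .e, .d, .c, .b, .c, .d, .e, .f, .h, .d, .c, .e, .i, .h, .c, .d, .c, .e, .d, .c, .f, .e, .h, .d, .c, .e, .d, .f, .h, .i, .h, .d, .c, .e, .d, .f, .h, .i]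

theorem cr4_10 : crt wr4_10 [.a, .f, .e, .d, .g, .f, .e, .h, .d, .c, .b, .e, .d, .f, .e, .c, .d, .e, .h, .d, .c, .d, .b, .c, .a, .d, .b, .c, .h, .b, .e, .d, .h, .c, .b, .e, .f, .d, .c, .b, .a, .i, .b, .h, .e, .d, .g, .f, .e, .h, .d, .c, .h, .d, .i, .h, .c, .d, .e, .h, .d, .c, .d, .b, .c, .a, .d, .b, .c, .h, .b, .e, .d, .h, .c, .b, .e, .f, .d, .c, .b, .a, .i, .b, .h, .e, .h, .e, .d, .e, .h, .e, .f, .d, .e, .i, .h, .g, .f, .c, .d, .e, .f, .h, .d, .b, .c, .f, .a, .d, .b, .e, .c, .h, .d, .b, .e, .c, .b, .h, .d, .c, .d, .a, .e, .b, .i, .a, .c, .h, .f, .g, .e, .d, .f, .e, .f, .h, .e, .d, .e, .f, .h, .g] [.c, .h, .c, .i, .c, .d, .e, .c, .h, .e, .d, .c, .a, .i] [.d, .e, .i, .a, .d, .i, .g, .f, .g, .a, .e, .i, .e, .a, .e, .i, .f, .e, .g, .i] = true := by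
  decide +kernel

def wr4_20 : List Gen := [.b, .c, .d, .h, .i, .e, .d, .h, .f, .e, .d, .c, .d, .e, .f, .h, .d, .e, .i, .h, .d, .c, .b, .c, .d, .h, .i, .e, .d, .h, .f, .e, .d, .c, .d, .e, .f, .h, .d, .e, .i, .h, .d, .c, .d, .h, .i, .e, .c, .d, .h, .f, .e, .d, .c, .b, .c, .d, .e, .f, .h, .d, .c, .e, .i, .h, .d, .h, .i, .e, .c, .d, .h, .f, .e, .d, .c, .b, .c, .d, .e, .f, .h, .d, .c, .e, .i, .h, .c, .d, .c, .e, .d, .c, .f, .e, .h, .d, .c, .e, .d, .f, .h, .i, .h, .d, .c, .e, .d, .f, .h, .i]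

theorem cr4_20 : crt wr4_20 [.c, .b, .e, .d, .f, .e, .g, .f, .g, .c, .d, .b, .c, .e, .a, .b, .h, .f, .g, .h, .d, .c, .e, .d, .h, .i, .d, .e, .c, .d, .h, .g, .f, .h, .b, .a, .e, .c, .b, .d, .c, .h, .d, .c, .a, .g, .e, .d, .f, .e, .d, .f, .h, .e, .d, .e, .f, .h, .i] [.g, .b, .h, .a] [.f, .b, .d] = true := by
  decide +kernel

def wyA : List Gen := [.d, .h, .i, .e, .d, .h, .c, .d, .e, .b, .c, .d, .h, .i, .e, .d, .h, .f, .e, .d, .c, .d, .e, .f, .h, .d, .e, .i, .h, .d, .c, .c, .d, .e, .d, .c, .h, .d, .e, .i, .h, .d]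

theorem cyA : crt wyA [.i, .h, .d, .c, .g, .f, .e, .d, .g, .f, .i] [.b, .a, .i, .a, .h, .i, .d, .g] [.g, .h, .c, .f, .d, .e, .d, .i, .c, .f, .d, .h] = true := by
  decide +kernel

def wyA_18 : List Gen := [.e, .d, .h, .i, .e, .d, .h, .c, .d, .e, .b, .c, .d, .h, .i, .e, .d, .h, .f, .e, .d, .c, .d, .e, .f, .h, .d, .e, .i, .h, .d, .c, .c, .d, .e, .d, .c, .h, .d, .e, .i, .h, .d]

theorem cyA_18 : crt wyA_18 [.a, .c, .b, .g, .e, .d, .f, .e, .f, .c, .d, .e, .h, .d, .c, .e, .d, .f, .e, .c, .d, .b, .c, .e, .a, .b, .h, .f, .g, .h, .d, .c, .e, .d, .h, .i, .d, .e, .c, .d, .h, .g, .f, .h, .b, .a, .e, .c, .b, .d, .c, .f, .h, .e, .d, .e, .f, .h, .i] [.c, .b, .h, .d, .e, .c, .h] [.g, .a, .i, .b, .e, .f, .c, .e, .d, .f] = true := by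
  decide +kernel

def wyA_2 : List Gen := [.c, .b, .c, .d, .h, .i, .e, .d, .h, .c, .d, .e, .b, .c, .d, .h, .i, .e, .d, .h, .f, .e, .d, .c, .d, .e, .f, .h, .d, .e, .i, .h, .d, .c, .c, .d, .e, .d, .c, .h, .d, .e, .i, .h, .d]

theorem cyA_2 : crt wyA_2 [.a, .e, .d, .i, .h, .d, .e, .i, .h, .c, .d, .h, .f, .a, .b, .e, .b, .i, .d, .f, .c, .b, .h, .i, .d, .g, .f, .e, .h, .d, .c, .d, .e, .h, .e, .d, .e, .h, .g, .f, .h, .e, .d, .e, .f, .h, .i, .f, .h, .e, .d, .e, .f, .h, .g, .f, .h, .e, .d, .e, .f, .h, .i, .g] [.d, .e, .c, .g, .e, .f, .b, .a, .e, .i, .a, .g, .h, .c, .b] [.h, .d, .f, .c] = true := by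
  decide +kernel

def wyA_21 : List Gen := [.d, .h, .i, .c, .d, .h, .f, .e, .d, .c, .b, .c, .d, .e, .f, .h, .d, .c, .i, .h, .d, .d, .h, .i, .e, .d, .h, .c, .d, .e, .b, .c, .d, .h, .i, .e, .d, .h, .f, .e, .d, .c, .d, .e, .f, .h, .d, .e, .i, .h, .d, .c, .c, .d, .e, .d, .c, .h, .d, .e, .i, .h, .d]

theorem cyA_21 : crt wyA_21 [.g, .f, .i, .f, .h, .e, .d, .e, .f, .h, .i, .e, .h, .d, .c, .d, .g, .f, .e, .h, .d, .c, .b, .d, .g, .i, .f, .h, .e, .d, .e, .f, .h, .i, .c, .h, .d, .i, .h, .g, .e, .d, .c, .i, .e, .g, .e, .d, .f, .e, .g, .h, .e, .d, .e, .f, .h, .g, .f, .h, .e, .d, .e, .f, .h, .i, .g] [.f, .d, .g, .a, .f, .a, .i, .h, .e, .f, .c] [.c, .b, .a, .f, .a, .d, .a, .h] = true := by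
  decide +kernel

def wyA_24 : List Gen := [.e, .d, .h, .i, .c, .d, .h, .f, .e, .d, .c, .b, .c, .d, .e, .f, .h, .d, .c, .i, .h, .d, .e, .d, .h, .i, .e, .d, .h, .c, .d, .e, .b, .c, .d, .h, .i, .e, .d, .h, .f, .e, .d, .c, .d, .e, .f, .h, .d, .e, .i, .h, .d, .c, .c, .d, .e, .d, .c, .h, .d, .e, .i, .h, .d]

theorem cyA_24 : crt wyA_24 [.f, .h, .e, .d, .e, .f, .h, .i, .h, .e, .d, .e, .h, .d, .c, .b, .g, .f, .h, .e, .d, .e, .f, .h, .d, .g, .f, .c, .h, .d, .i, .h, .g, .e, .d, .c, .i, .e, .h, .d, .i, .h, .f, .g] [.d, .h, .f, .b, .h, .b, .i, .h, .g, .c, .g, .d] [.f, .e, .g, .c, .f, .i, .h, .b, .e] = true := by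
  decide +kernel

def wyA_2_18 : List Gen := [.c, .b, .c, .e, .d, .h, .i, .e, .d, .h, .c, .d, .e, .b, .c, .d, .h, .i, .e, .d, .h, .f, .e, .d, .c, .d, .e, .f, .h, .d, .e, .i, .h, .d, .c, .c, .d, .e, .d, .c, .h, .d, .e, .i, .h, .d]

theorem cyA_2_18 : crt wyA_2_18 [.b, .i, .d, .c, .e, .f, .d, .g, .e, .b, .h, .d, .c, .i, .f, .b, .d, .g, .f, .e, .h, .d, .c, .h, .d, .i, .h, .d, .g, .f, .h, .e, .d, .e, .f, .h] [.f, .i, .b, .e, .a] [.e, .h, .e, .d, .e, .i, .c] = true := by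
  decide +kernel

def wyA_2_21 : List Gen := [.c, .b, .c, .d, .h, .i, .c, .d, .h, .f, .e, .d, .c, .b, .c, .d, .e, .f, .h, .d, .c, .i, .h, .d, .d, .h, .i, .e, .d, .h, .c, .d, .e, .b, .c, .d, .h, .i, .e, .d, .h, .f, .e, .d, .c, .d, .e, .f, .h, .d, .e, .i, .h, .d, .c, .c, .d, .e, .d, .c, .h, .d, .e, .i, .h, .d]

theorem cyA_2_21 : crt wyA_2_21 [.e, .h, .d, .e, .c, .d, .h, .f, .e, .f, .d, .g, .c, .g, .h, .i, .d, .h, .e, .d, .c, .b, .e, .d, .h, .f, .e, .d, .c, .i, .h, .e, .d, .e, .h, .d, .i] [.b, .f, .h, .b, .c] [.d, .f, .c, .b, .e, .i, .f] = true := by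
  decide +kernel

def wyA_2_24 : List Gen := [.c, .b, .c, .e, .d, .h, .i, .c, .d, .h, .f, .e, .d, .c, .b, .c, .d, .e, .f, .h, .d, .c, .i, .h, .d, .e, .d, .h, .i, .e, .d, .h, .c, .d, .e, .b, .c, .d, .h, .i, .e, .d, .h, .f, .e, .d, .c, .d, .e, .f, .h, .d, .e, .i, .h, .d, .c, .c, .d, .e, .d, .c, .h, .d, .e, .i, .h, .d]

theorem cyA_2_24 : crt wyA_2_24 [.f, .e, .h, .d, .g, .f, .e, .i, .a, .h, .d, .a, .g, .c, .b, .g, .e, .d, .f, .e, .i, .h, .d, .c, .e, .h, .d, .f, .h, .e, .d, .e, .f, .h, .i] [.h, .d, .b, .e, .f] [.i, .c, .g] = true := by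
  decide +kernel

def wyA_5 : List Gen := [.b, .c, .d, .h, .i, .e, .d, .h, .f, .e, .d, .c, .b, .c, .d, .e, .f, .h, .d, .e, .i, .h, .d, .c, .b, .d, .h, .i, .e, .d, .h, .c, .d, .e, .b, .c, .d, .h, .i, .e, .d, .h, .f, .e, .d, .c, .d, .e, .f, .h, .d, .e, .i, .h, .d, .c, .c, .d, .e, .d, .c, .h, .d, .e, .i, .h, .d]

theorem cyA_5 : crt wyA_5 [.c, .d, .a, .d, .c, .b, .c, .a, .d, .b, .c, .e, .b, .h, .d, .c, .e, .f, .g, .h, .d, .f, .b, .e, .a, .i, .c, .h, .b, .g, .f, .c, .d, .b, .g, .a, .h, .a, .i, .c, .d, .b, .c, .a, .h, .e, .d, .i, .c, .b, .d, .a, .i, .c, .d, .g, .e, .h, .d, .i, .c, .b, .h, .d, .c, .f, .i] [.h, .c, .a, .b, .c, .g, .b, .d, .f] [.c, .i, .b, .i, .d, .e, .i] = true := by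
  decide +kernel

def wyA_5_18 : List Gen := [.b, .c, .d, .h, .i, .e, .d, .h, .f, .e, .d, .c, .b, .c, .d, .e, .f, .h, .d, .e, .i, .h, .d, .c, .b, .e, .d, .h, .i, .e, .d, .h, .c, .d, .e, .b, .c, .d, .h, .i, .e, .d, .h, .f, .e, .d, .c, .d, .e, .f, .h, .d, .e, .i, .h, .d, .c, .c, .d, .e, .d, .c, .h, .d, .e, .i, .h, .d]

theorem cyA_5_18 : crt wyA_5_18 [.d, .f, .c, .h, .e, .d, .h, .f, .e, .c, .d, .h, .i, .c, .b, .i, .f, .h, .e, .d, .e, .f, .h, .i, .e, .h, .d, .c, .d, .h, .f, .h, .e, .d, .e, .f, .h] [.e, .c, .i, .b] [.i, .c, .e, .f, .h, .e, .d] = true := by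
  decide +kernel

def wyA_5_21 : List Gen := [.b, .c, .d, .h, .i, .e, .d, .h, .f, .e, .d, .c, .b, .c, .d, .e, .f, .h, .d, .e, .i, .h, .d, .c, .b, .d, .h, .i, .c, .d, .h, .f, .e, .d, .c, .b, .c, .d, .e, .f, .h, .d, .c, .i, .h, .d, .d, .h, .i, .e, .d, .h, .c, .d, .e, .b, .c, .d, .h, .i, .e, .d, .h, .f, .e, .d, .c, .d, .e, .f, .h, .d, .e, .i, .h, .d, .c, .c, .d, .e, .d, .c, .h, .d, .e, .i, .h, .d]

theorem cyA_5_21 : crt wyA_5_21 [.c, .d, .e, .h, .b, .d, .c, .b, .a, .d, .i, .e, .a, .h, .d, .c, .i, .e, .d, .e, .h, .f, .h, .e, .d, .e, .f, .h] [.i, .c, .h, .e, .d, .f] [.e, .h, .b] = true := by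
  decide +kernel

def wyA_5_24 : List Gen := [.b, .c, .d, .h, .i, .e, .d, .h, .f, .e, .d, .c, .b, .c, .d, .e, .f, .h, .d, .e, .i, .h, .d, .c, .b, .e, .d, .h, .i, .c, .d, .h, .f, .e, .d, .c, .b, .c, .d, .e, .f, .h, .d, .c, .i, .h, .d, .e, .d, .h, .i, .e, .d, .h, .c, .d, .e, .b, .c, .d, .h, .i, .e, .d, .h, .f, .e, .d, .c, .d, .e, .f, .h, .d, .e, .i, .h, .d, .c, .c, .d, .e, .d, .c, .h, .d, .e, .i, .h, .d]

theorem cyA_5_24 : crt wyA_5_24 [.i, .c, .d, .e, .h, .d, .c, .g, .b, .g, .f, .h, .e, .d, .e, .f, .h, .c, .d, .h, .e, .d, .c, .d, .e, .f, .h, .i] [.c, .h, .b, .d, .i, .h, .e] [.b, .i, .h, .f] = true := by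
  decide +kernel

def wyA_8 : List Gen := [.d, .h, .i, .e, .d, .h, .f, .e, .d, .c, .d, .e, .f, .h, .d, .e, .i, .h, .d, .d, .h, .i, .e, .d, .h, .c, .d, .e, .b, .c, .d, .h, .i, .e, .d, .h, .f, .e, .d, .c, .d, .e, .f, .h, .d, .e, .i, .h, .d, .c, .c, .d, .e, .d, .c, .h, .d, .e, .i, .h, .d]

theorem cyA_8 : crt wyA_8 [.f, .h, .d, .h, .e, .c, .d, .e, .b, .f, .b, .i, .g, .a, .h, .e, .d, .c, .a, .b, .i, .c, .d, .e, .h, .d, .c, .g, .f, .e, .h, .e, .d, .e, .h, .g, .i, .g, .f, .h, .e, .d, .e, .f, .h, .i, .g] [.d, .e, .c, .g, .e, .f, .b, .a, .e, .i, .a, .g, .h, .c, .b] [.h, .d, .f, .c] = true := by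
  decide +kernel

def wyA_8_18 : List Gen := [.d, .h, .i, .e, .d, .h, .f, .e, .d, .c, .d, .e, .f, .h, .d, .e, .i, .h, .d, .e, .d, .h, .i, .e, .d, .h, .c, .d, .e, .b, .c, .d, .h, .i, .e, .d, .h, .f, .e, .d, .c, .d, .e, .f, .h, .d, .e, .i, .h, .d, .c, .c, .d, .e, .d, .c, .h, .d, .e, .i, .h, .d]

theorem cyA_8_18 : crt wyA_8_18 [.e, .c, .h, .f, .d, .f, .h, .a, .e, .d, .c, .i, .e, .h, .f, .e, .d, .e, .h, .f, .c, .i, .g, .a, .d, .h, .e, .i, .d, .c, .h, .f, .g, .d, .b, .c, .i, .d, .h, .d, .f, .e, .d, .c, .g, .f, .e, .h, .i] [.d, .h, .c, .f, .i, .b] [.e, .h, .b] = true := by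
  decide +kernel

def wyA_8_21 : List Gen := [.d, .h, .i, .e, .d, .h, .f, .e, .d, .c, .d, .e, .f, .h, .d, .e, .i, .h, .d, .d, .h, .i, .c, .d, .h, .f, .e, .d, .c, .b, .c, .d, .e, .f, .h, .d, .c, .i, .h, .d, .d, .h, .i, .e, .d, .h, .c, .d, .e, .b, .c, .d, .h, .i, .e, .d, .h, .f, .e, .d, .c, .d, .e, .f, .h, .d, .e, .i, .h, .d, .c, .c, .d, .e, .d, .c, .h, .d, .e, .i, .h, .d]

theorem cyA_8_21 : crt wyA_8_21 [.f, .e, .i, .h, .d, .g, .e, .c, .h, .i, .d, .b, .g, .h, .c, .e, .i, .b, .d, .e, .f, .c, .b, .e, .f, .i, .d, .h, .e, .d, .c, .e, .i, .h, .i] [.h, .d, .c, .e, .f, .e] [.e, .i, .b, .h] = true := by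
  decide +kernel

def wyA_8_24 : List Gen := [.d, .h, .i, .e, .d, .h, .f, .e, .d, .c, .d, .e, .f, .h, .d, .e, .i, .h, .d, .e, .d, .h, .i, .c, .d, .h, .f, .e, .d, .c, .b, .c, .d, .e, .f, .h, .d, .c, .i, .h, .d, .e, .d, .h, .i, .e, .d, .h, .c, .d, .e, .b, .c, .d, .h, .i, .e, .d, .h, .f, .e, .d, .c, .d, .e, .f, .h, .d, .e, .i, .h, .d, .c, .c, .d, .e, .d, .c, .h, .d, .e, .i, .h, .d]

theorem cyA_8_24 : crt wyA_8_24 [.e, .h, .d, .c, .i, .g, .f, .h, .e, .d, .e, .f, .h, .d, .c, .e, .d, .i, .c, .h, .g, .e, .a, .d, .h, .c, .h, .b, .e, .h, .d, .c, .d, .i, .h, .g] [.b, .h, .a, .g, .b, .f] [.i, .g, .e, .d, .g, .c] = true := by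
  decide +kernel

def wyB : List Gen := [.d, .h, .i, .e, .c, .d, .h, .f, .e, .d, .c, .b, .c, .d, .e, .f, .h, .d, .c, .e, .i, .h, .e, .f, .h, .i]

theorem cyB : crt wyB [.i, .f, .h, .e, .d, .c, .f, .e, .i, .h, .d] [.c, .d, .i, .f] [.b, .c, .e, .h] = true := by
  decide +kernel

def wyB_0 : List Gen := [.b, .d, .h, .i, .e, .c, .d, .h, .f, .e, .d, .c, .b, .c, .d, .e, .f, .h, .d, .c, .e, .i, .h, .e, .f, .h, .i]

theorem cyB_0 : crt wyB_0 [.i, .c, .d, .e, .h, .d, .c, .g, .f, .c, .d, .e, .a, .f, .h, .a, .b, .c, .d, .h, .b, .f, .a, .b, .c, .d, .b, .e, .d, .h, .c, .f, .g, .d, .e, .a, .b, .a, .c, .b, .h, .a, .d, .g, .c, .d, .e, .a, .f, .e, .b, .c, .e, .a, .d, .b, .e, .h, .f, .c, .g, .f, .h, .e, .d, .e, .f, .h, .i, .c, .g, .d, .e, .h, .d, .e, .c, .b, .a, .e, .d, .f, .e, .g, .d, .b, .c, .b, .f, .c, .e, .a, .d, .c, .f, .b] [.c, .a, .h, .i,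 .f] [.i, .h, .g, .b, .d, .e, .h, .a, .d, .g] = true := by
  decide +kernel

def wyB_3 : List Gen := [.c, .d, .h, .i, .e, .d, .h, .f, .e, .d, .c, .d, .e, .f, .h, .d, .e, .i, .h, .d, .c, .d, .h, .i, .e, .c, .d, .h, .f, .e, .d, .c, .b, .c, .d, .e, .f, .h, .d, .c, .e, .i, .h, .e, .f, .h, .i]

theorem cyB_3 : crt wyB_3 [.a, .e, .h, .d, .c, .d, .b, .c, .a, .d, .b, .c, .h, .b, .e, .d, .h, .c, .b, .e, .f, .d, .c, .b, .a, .i, .b, .h, .e, .f, .c, .d, .h, .a, .e, .d, .b, .c, .d, .e, .a, .h, .d, .f, .b, .c, .f, .d, .h, .b, .e, .d, .c, .g, .a, .b, .c, .i, .e, .h, .d, .e, .h, .g, .c, .d, .b, .c, .e, .a, .b, .h, .f, .g, .h, .d, .c, .e, .d, .i, .h, .d, .e, .c, .d, .h, .g, .f, .h, .b, .a, .e, .c, .b, .d, .c] [.f, .i, .c, .a, .d, .b, .e, .c] [.d, .e, .g, .h, .g, .d, .b] = true := by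
  decide +kernel

def wyB_6 : List Gen := [.b, .c, .d, .h, .i, .e, .d, .h, .f, .e, .d, .c, .d, .e, .f, .h, .d, .e, .i, .h, .d, .c, .b, .d, .h, .i, .e, .c, .d, .h, .f, .e, .d, .c, .b, .c, .d, .e, .f, .h, .d, .c, .e, .i, .h, .e, .f, .h, .i]

theorem cyB_6 : crt wyB_6 [.e, .g, .d, .c, .e, .f, .e, .d, .g, .h, .a, .i, .f, .e, .h, .d, .a, .h, .c, .b, .i, .f, .h, .e, .d, .c, .d, .f, .e, .d, .g, .f, .g, .f, .h, .e, .d, .e, .f, .h, .i, .f, .h, .e, .d, .e, .f, .h, .g, .f, .h, .e, .d, .e, .f, .h, .i, .g] [.b, .c, .b, .d, .c, .h, .f] [.h, .g, .e, .d, .c, .i, .e] = true := by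
  decide +kernel

def wyE : List Gen := [.b, .c, .d, .h, .i, .e, .d, .h, .f, .e, .d, .c, .d, .e, .f, .h, .d, .e, .i, .h, .d, .c, .b, .c, .d, .h, .i, .e, .d, .h, .f, .e, .d, .c, .d, .e, .f, .h, .d, .e, .i, .h, .d, .c, .c, .d, .c, .e, .d, .f, .h, .i]

theorem cyE : crt wyE [.g, .h, .i, .d, .h, .e, .d, .c, .b, .h, .i, .g, .h, .c, .d, .h, .e, .d, .c, .h, .d, .i, .h, .d, .g, .f, .h, .e, .d, .e, .f, .h] [.c, .g, .f, .d] [.e, .h, .b] = true := by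
  decide +kernel

end Cfsg.Agent.H3.Ore.FC
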