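import Cfsg.Agent.H3.Ore.Fi22Three
import Cfsg.Agent.H440.TwoGen.Path
import Cfsg.Agent.H559.FiSpec
import Cfsg.Agent.H835.SylFive

/-!
# `Fi22`: elements of order divisible by 5, 7, 11 or 13 are commutators (helper3)

The centralizer of an element of order `p` is `⟨u⟩ × S₅`, `⟨u⟩ × S₃`, cyclic of order 22, cyclic of order 13.
-/

set_option autoImplicit false
set_option maxRecDepth 100000
set_option exponentiation.threshold 5000
set_option linter.style.longLine false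
set_option linter.constructorNameAsVariable false

namespace Cfsg.Agent.H3.Ore.FP

open Equiv Equiv.Perm Subgroup
open Cfsg.Agent.H777.Ore (IsC isC_zpow)
open Cfsg.Agent.H455.Isolated (exists_pow_orderOf)

section gen

variable {G : Type*} [Group G]

/-- reduction to the centralizer of one element of order `p` -/
theorem isC_of_cent [Finite G] {p : ℕ}
    (hall : ∀ X Y : Subgroup G, Nat.card X = p → Nat.card Y = p → ∃ g : G, X.map (MulAut.conj g).toMonoidHom = Y)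
    {u : G} (hu : orderOf u = p) (hC : ∀ c : G, Commute c u → p ∣ orderOf c → IsC c) {x : G} (hx : p ∣ orderOf x) : IsC x := by
  obtain ⟨k, hk⟩ := exists_pow_orderOf hx
  obtain ⟨g, hg⟩ := hall (zpowers (x ^ k)) (zpowers u) (by rw [Nat.card_zpowers, hk]) (by rw [Nat.card_zpowers, hu])
  refine IsC.of_conj g (hC _ ?_ ?_)
  · have h1 : u ∈ (zpowers (x ^ k)).map (MulAut.conj g).toMonoidHom := by rw [hg]; exact mem_zpowers u
    obtain ⟨y, hy, hyu⟩ := h1
    obtain ⟨j, rfl⟩ := mem_zpowers_iff.1 hy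
    rw [← hyu]
    have h2 : Commute x ((x ^ k) ^ j) := ((Commute.refl x).pow_right k).zpow_right j
    show Commute (g * x * g⁻¹) (g * (x ^ k) ^ j * g⁻¹)
    show (g * x * g⁻¹) * (g * (x ^ k) ^ j * g⁻¹) = (g * (x ^ k) ^ j * g⁻¹) * (g * x * g⁻¹)
    calc (g * x * g⁻¹) * (g * (x ^ k) ^ j * g⁻¹) = g * (x * (x ^ k) ^ j) * g⁻¹ := by group
      _ = g * ((x ^ k) ^ j * x) * g⁻¹ := by rw [h2.eq]
      _ = _ := by group
  · rw [show g * x * g⁻¹ = MulAut.conj g x from rfl, MulEquiv.orderOf_eq]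
    exact hx

/-- powers of a normalised element -/
theorem isC_zpow_of_norm {a b : G} {k : ℤ} (h : b * a * b⁻¹ = a ^ k) {n : ℕ} (hn : a ^ n = 1)
    (hc : IsCoprime (k - 1) (n : ℤ)) (j : ℤ) : IsC (a ^ j) := by
  obtain ⟨u, v, huv⟩ := hc
  have h1 : a ^ j = (a ^ (j * u)) ^ (k - 1) := by
    have h2 : a ^ (n : ℤ) = 1 := by rw [zpow_natCast, hn]
    calc a ^ j = a ^ (j * u * (k - 1) + (n : ℤ) * (v * j)) := by
          congr 1
          calc j = j * (u * (k - 1) + v * (n : ℤ)) := by rw [huv, mul_one]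
            _ = _ := by ring
      _ = _ := by rw [zpow_add, zpow_mul a (n : ℤ), h2, one_zpow, mul_one, zpow_mul]
  rw [h1]
  refine isC_zpow (b := b) ?_
  calc b * a ^ (j * u) * b⁻¹ = (b * a * b⁻¹) ^ (j * u) := by rw [conj_zpow]
    _ = (a ^ (j * u)) ^ k := by rw [h, ← zpow_mul, ← zpow_mul, mul_comm]

theorem conj_pow_pow {n u : G} {k : ℕ} (h : n * u * n⁻¹ = u ^ k) (r : ℕ) : n ^ r * u * (n ^ r)⁻¹ = u ^ k ^ r := by
  induction r with
  | zero => simp
  | succ r ih =>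
    calc n ^ (r + 1) * u * (n ^ (r + 1))⁻¹ = n * (n ^ r * u * (n ^ r)⁻¹) * n⁻¹ := by rw [pow_succ']; group
      _ = u ^ k ^ (r + 1) := by rw [ih, ← conj_pow, h, ← pow_mul, pow_succ']

/-- an element commuting with the images of the adjacent transpositions -/
theorem comm_of_path {n : ℕ} (φ : Perm (Fin (n + 1)) →* G) {x : G}
    (h : ∀ i : Fin n, Commute x (φ (swap i.castSucc i.succ))) (σ : Perm (Fin (n + 1))) : Commute x (φ σ) := by
  have hm : σ ∈ Submonoid.closure (Set.range fun i : Fin n => swap i.castSucc i.succ) := by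
    rw [Equiv.Perm.mclosure_swap_castSucc_succ]; exact Submonoid.mem_top σ
  induction hm using Submonoid.closure_induction with
  | mem y hy => obtain ⟨i, rfl⟩ := hy; exact h i
  | one => rw [map_one]; exact Commute.one_right x
  | mul y z _ _ h1 h2 => rw [map_mul]; exact h1.mul_right h2

/-- the centralizer is `⟨u⟩ × φ(S)` -/
theorem cent_prod {k p : ℕ} (φ : Perm (Fin k) →* G) {u : G} (hp : 0 < p) (hu : orderOf u = p)
    (hcom : ∀ σ, Commute u (φ σ)) (hinj : Function.Injective φ) (hcen : ∀ σ : Perm (Fin k), (∀ τ, σ * τ = τ * σ) → σ = 1)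
    (hcard : Nat.card (centralizer ({u} : Set G)) = p * k.factorial) {c : G} (hc : Commute c u) :
    ∃ i < p, ∃ σ, c = u ^ i * φ σ := by
  let Ψ : Fin p × Perm (Fin k) → centralizer ({u} : Set G) := fun x =>
    ⟨u ^ (x.1 : ℕ) * φ x.2, mem_centralizer_singleton_iff.2
      (((Commute.refl u).pow_left _).mul_left (hcom x.2).symm).eq⟩
  have hΨ : Function.Injective Ψ := by
    rintro ⟨i, σ⟩ ⟨j, τ⟩ h
    have h1 : u ^ (i : ℕ) * φ σ = u ^ (j : ℕ) * φ τ := congrArg Subtype.val h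
    have h2 : φ (σ * τ⁻¹) = (u ^ (i : ℕ))⁻¹ * u ^ (j : ℕ) := by
      rw [map_mul, map_inv, mul_inv_eq_iff_eq_mul, mul_assoc, ← h1, inv_mul_cancel_left]
    have h3 : σ * τ⁻¹ = 1 := by
      apply hcen
      intro ρ
      apply hinj
      rw [map_mul, map_mul φ ρ, h2]
      exact (((hcom ρ).pow_left _).inv_left.mul_left ((hcom ρ).pow_left _)).eq
    have h4 : σ = τ := mul_inv_eq_one.1 h3
    subst h4
    have h5 := mul_right_cancel h1
    have h6 : (i : ℕ) = j := pow_injOn_Iio_orderOf (by rw [hu]; exact i.2) (by rw [hu]; exact j.2) h5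
    rw [Fin.ext h6]
  have hfin : Finite (centralizer ({u} : Set G)) := Nat.finite_of_card_ne_zero (by
    rw [hcard]; exact Nat.mul_ne_zero hp.ne' (Nat.factorial_ne_zero k))
  have hbij : Function.Bijective Ψ := by
    apply hΨ.bijective_of_nat_card_le
    rw [hcard, Nat.card_prod, Nat.card_eq_fintype_card, Nat.card_eq_fintype_card, Fintype.card_fin, Fintype.card_perm,
      Fintype.card_fin]
  obtain ⟨⟨i, σ⟩, h⟩ := hbij.2 ⟨c, mem_centralizer_singleton_iff.2 hc.eq⟩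
  exact ⟨i, i.2, σ, (congrArg Subtype.val h).symm⟩

/-- the copy of the symmetric group on a path of involutions -/
theorem exists_inj' {n : ℕ} (hn : 4 ≤ n) (p : ℕ → G) (hsq : ∀ i < n, p i * p i = 1)
    (hbr : ∀ i, i + 1 < n → p i * p (i + 1) * p i = p (i + 1) * p i * p (i + 1))
    (hcm : ∀ i j, i + 1 < j → j < n → p i * p j = p j * p i) (h01 : p 0 ≠ p 1) :
    ∃ φ : Perm (Fin (n + 1)) →* G, Function.Injective φ ∧ ∀ i : Fin n, φ (swap i.castSucc i.succ) = p i := by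
  obtain ⟨φ, hφ⟩ := Cfsg.Agent.H440.TwoGen.Path.exists_hom n p hsq hbr hcm
  refine ⟨φ, ?_, hφ⟩
  rw [← MonoidHom.ker_eq_bot_iff]
  by_contra hne
  have hnt : Nontrivial φ.ker := (Subgroup.nontrivial_iff_ne_bot _).2 hne
  have hle := Equiv.Perm.alternatingGroup_le_of_normal (α := Fin (n + 1))
    (by rw [Nat.card_eq_fintype_card, Fintype.card_fin]; omega) hnt
  apply h01
  have h0 := hφ ⟨0, by omega⟩
  have h1 := hφ ⟨1, by omega⟩
  have hmem : (swap (⟨0, by omega⟩ : Fin n).castSucc (⟨0, by omega⟩ : Fin n).succ *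
      swap (⟨1, by omega⟩ : Fin n).castSucc (⟨1, by omega⟩ : Fin n).succ) ∈
        alternatingGroup (Fin (n + 1)) := by
    rw [Equiv.Perm.mem_alternatingGroup, Equiv.Perm.sign_mul, Equiv.Perm.sign_swap,
      Equiv.Perm.sign_swap]
    · decide
    · intro h; simp [Fin.ext_iff] at h
    · intro h; simp [Fin.ext_iff] at h
  have h := hle hmem
  rw [MonoidHom.mem_ker, map_mul, h0, h1] at h
  simp only at h
  have h11 : p 1 * p 1 = 1 := hsq 1 (by omega)
  calc p 0 = p 0 * (p 1 * p 1) := by rw [h11, mul_one]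
    _ = p 1 := by rw [← mul_assoc, h, one_mul]

end gen

/-! ### the permutations of five and three points -/

theorem cen5 : ∀ σ : Perm (Fin 5), (∀ τ, σ * τ = τ * σ) → σ = 1 := by
  intro σ h
  have key : ∀ σ : Perm (Fin 5), σ * swap 0 1 = swap 0 1 * σ → σ * swap 1 2 = swap 1 2 * σ →
      σ * swap 2 3 = swap 2 3 * σ → σ * swap 3 4 = swap 3 4 * σ → σ = 1 := by decide +kernel
  exact key σ (h _) (h _) (h _) (h _)

theorem cen3 : ∀ σ : Perm (Fin 3), (∀ τ, σ * τ = τ * σ) → σ = 1 := by decide +kernel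

/-- the representatives -/
def s5 (i : Fin 4) : Perm (Fin 5) := swap i.castSucc i.succ

def reps5 : List (Perm (Fin 5)) := [1, s5 0, s5 0 * s5 3, s5 0 * s5 1, s5 0 * s5 1 * s5 2, s5 0 * s5 1 * s5 2 * s5 3,
  s5 0 * s5 1 * s5 3]

theorem cls5 : ∀ σ : Perm (Fin 5), ∃ τ : Perm (Fin 5), τ * σ * τ⁻¹ ∈ reps5 := by decide +kernel

theorem ord5 : ∀ σ : Perm (Fin 5), σ ^ 5 = 1 ∨ σ ^ 12 = 1 := by decide +kernel

def t3 (i : Fin 2) : Perm (Fin 3) := swap i.castSucc i.succ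

theorem cls3 : ∀ σ : Perm (Fin 3), ∃ τ : Perm (Fin 3), τ * σ * τ⁻¹ = 1 ∨ τ * σ * τ⁻¹ = t3 0 ∨ τ * σ * τ⁻¹ = t3 0 * t3 1 := by
  decide +kernel

theorem all3 : ∀ σ : Perm (Fin 3), σ = 1 ∨ σ = t3 0 ∨ σ = t3 1 ∨ σ = t3 0 * t3 1 ∨ σ = t3 1 * t3 0 ∨
    σ = t3 0 * t3 1 * t3 0 := by decide +kernel

/-! ### the words -/

section words

open Cfsg.Spor Cfsg.Spor.Fi22 Cfsg.Agent.Lib.PermNet Cfsg.Agent.Lib.PermNetOrbit Cfsg.Agent.Lib.PermNetFix
open Cfsg.Agent.Fischer Cfsg.Agent.Fischer.Fi22PtsRep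
open Cfsg.Agent.H834 Cfsg.Agent.H834.AC
open Cfsg.Agent.H3.Ore.FC

/-- the element of order 5 and the path commuting with it -/
def u5 : List Gen := [.a, .b, .c, .d]
def n5 : List Gen := [.c, .a, .b]
def qX : List Gen := [.h, .d, .e, .c, .d, .h, .i, .b, .c, .d, .h, .e, .d, .c, .b, .a, .b, .c, .d, .e, .h, .d, .c, .b, .i, .h, .d, .c, .e, .d, .h]
def q5 (i : ℕ) : List Gen := [[.g], [.f], qX, [.i]].getD i []

theorem o5 : eqB (u5 ++ (u5 ++ (u5 ++ (u5 ++ u5)))) [] = true := by decide +kernel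
theorem nu5 : cnj n5 u5 (u5 ++ u5) = true := by decide +kernel
theorem cq5 : ((List.range 4).all fun i => and (eqB (q5 i ++ q5 i) []) (and (eqB (u5 ++ q5 i) (q5 i ++ u5))
    (and (eqB (n5 ++ q5 i) (q5 i ++ n5)) (or (Nat.beq i 3) (eqB (q5 i ++ (q5 (i + 1) ++ q5 i)) (q5 (i + 1) ++ (q5 i ++ q5 (i + 1)))))))) = true := by
  decide +kernel
theorem cm5 : ((List.range 4).all fun i => (List.range 4).all fun j => or (not (Nat.ble (i + 2) j))
    (eqB (q5 i ++ q5 j) (q5 j ++ q5 i))) = true := by decide +kernel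
theorem ne5 : Nat.beq (ptWord (nw [.g]) 154) (ptWord (nw [.f]) 154) = false := by decide +kernel
theorem ng5 : Nat.beq (ptWord (nw [.g]) 88) 88 = false := by decide +kernel
theorem nf5 : Nat.beq (ptWord (nw [.f]) 154) 154 = false := by decide +kernel
theorem nu5' : Nat.beq (ptWord (nw u5) 0) 0 = false := by decide +kernel

/-- the element of order 7 -/
def u7 : List Gen := [.a, .b, .c, .d, .h, .i]
def n7 : List Gen := [.c, .d, .i, .h, .c, .a, .b]

theorem o7 : eqB (u7 ++ (u7 ++ (u7 ++ (u7 ++ (u7 ++ (u7 ++ u7)))))) [] = true := by decide +kernel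
theorem nu7 : cnj n7 u7 (u7 ++ (u7 ++ u7)) = true := by decide +kernel
theorem cq7 : ((List.range 2).all fun i => and (eqB (u7 ++ q5 i) (q5 i ++ u7)) (eqB (n7 ++ q5 i) (q5 i ++ n7))) = true := by
  decide +kernel
theorem nu7' : Nat.beq (ptWord (nw u7) 0) 0 = false := by decide +kernel

/-- the element of order 22 -/
def n11 : List Gen := [.f, .h, .g, .e, .f, .h, .i, .c, .h, .e, .d, .e, .c, .f, .i, .d, .h, .d, .c, .b, .d, .h, .e, .d, .c, .d, .e, .h, .d, .c, .b, .c, .a, .b, .d, .h, .e, .d, .e, .h, .c, .d, .e, .h, .b, .d, .c, .b, .a, .b, .f, .i, .g, .f, .h, .e, .d, .e, .f, .h, .i, .g, .c, .d, .h, .e, .d, .c, .e, .d, .c, .a, .d, .e, .h, .f, .b, .c, .e, .d, .b, .h, .a, .b, .f, .c, .e, .a, .d, .b, .c, .h, .i, .e, .a, .d, .b, .a, .g, .c, .b, .f, .h, .e, .d, .e, .f, .d, .e, .g, .f, .c, .d, .h, .e, .f, .d, .a, .b, .c, .f, .a, .d, .b, .e, .c, .h, .d, .c, .a, .b, .h, .e, .d, .c, .i, .f, .a, .h, .b, .g, .e, .d, .f, .e, .f,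 .h, .e, .d, .e, .f, .h, .i, .f, .h, .e, .d, .e, .f, .h, .g, .f, .h, .e, .d, .e, .f, .h, .i, .g]

theorem o22 : eqB (wp11 ++ (wp11 ++ (wp11 ++ (wp11 ++ (wp11 ++ (wp11 ++ (wp11 ++ (wp11 ++ (wp11 ++ (wp11 ++ (wp11 ++ (wp11 ++ (wp11 ++ (wp11 ++ (wp11 ++ (wp11 ++ (wp11 ++ (wp11 ++ (wp11 ++ (wp11 ++ (wp11 ++ wp11))))))))))))))))))))) [] = true := by
  decide +kernel
theorem nu22 : Nat.beq (ptWord (nw (wp11 ++ wp11)) 0) 0 = false := by decide +kernel
theorem nu22' : Nat.beq (ptWord (nw (wp11 ++ (wp11 ++ (wp11 ++ (wp11 ++ (wp11 ++ (wp11 ++ (wp11 ++ (wp11 ++ (wp11 ++ (wp11 ++ wp11))))))))))) 0) 0 = false := by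
  decide +kernel
theorem nu11 : cnj n11 wp11 (wp11 ++ (wp11 ++ wp11)) = true := by decide +kernel

/-- the element of order 13 -/
def u13 : List Gen := [.d, .h, .g, .e, .a, .i, .b, .c, .f, .a]
def n13 : List Gen := [.e, .d, .a, .c, .b, .f, .h, .e, .d, .e, .f, .h, .i, .g, .f, .h, .e, .d, .e, .f, .h, .i, .g, .i, .c, .g, .d, .e, .h, .d, .e, .c, .b, .g, .c, .h, .e, .h, .f, .d, .e, .h, .i, .d, .c, .g, .d, .f, .h, .e, .d, .e, .f, .h, .e, .c, .g, .f, .a, .d, .e, .h, .d, .h, .c, .g, .f, .e, .h, .f, .h, .e, .d, .e, .f, .h, .g, .i, .g, .f, .h, .e, .d, .e, .f, .h, .i, .g]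

theorem o13 : eqB (u13 ++ (u13 ++ (u13 ++ (u13 ++ (u13 ++ (u13 ++ (u13 ++ (u13 ++ (u13 ++ (u13 ++ (u13 ++ (u13 ++ u13)))))))))))) [] = true := by
  decide +kernel
theorem nu13 : cnj n13 u13 (u13 ++ (u13 ++ (u13 ++ u13))) = true := by decide +kernel
theorem nu13' : Nat.beq (ptWord (nw u13) 0) 0 = false := by decide +kernel

end words

end Cfsg.Agent.H3.Ore.FP

namespace Cfsg.Agent.H834.Model

open Equiv Equiv.Perm Subgroup
open Cfsg.Spor Cfsg.Spor.Fi22 Cfsg.Agent.Lib.PermNet Cfsg.Agent.Lib.PermNetOrbit Cfsg.Agent.Lib.PermNetFix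
open Cfsg.Agent.Fischer Cfsg.Agent.Fischer.Fi22PtsRep
open Cfsg.Agent.H834 Cfsg.Agent.H834.AC
open Cfsg.Agent.H3.Ore.FC Cfsg.Agent.H3.Ore.FP
open Cfsg.Agent.H777.Ore (IsC isC_zpow)
open Cfsg.Agent.H836 Cfsg.Agent.KFacts.FiTT

section

variable {G : Type*} [Group G] {D : Set G} (m : Model G D)

theorem ne_of_pt {u v : List Gen} {q : ℕ} (h : Nat.beq (ptWord (nw u) q) (ptWord (nw v) q) = false) : m.wd u ≠ m.wd v := by
  intro e
  have h1 := congrArg (fun g => m.φ g q) e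
  simp only [φ_wd_apply] at h1
  exact Nat.ne_of_beq_eq_false h h1

theorem ne_one_of_pt {u : List Gen} {q : ℕ} (h : Nat.beq (ptWord (nw u) q) q = false) : m.wd u ≠ 1 := by
  intro e
  have h1 := congrArg (fun g => m.φ g q) e
  simp only [φ_wd_apply, map_one, Equiv.Perm.one_apply] at h1
  exact Nat.ne_of_beq_eq_false h h1

theorem u5_pow : m.wd u5 ^ 5 = 1 := by
  have h := m.eq_of_eqB o5
  simp only [wd_append, wd_nil] at h
  simpa only [pow_succ, pow_zero, one_mul, mul_assoc] using h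

theorem orderOf_u5 : orderOf (m.wd u5) = 5 := by
  have h5 : Fact (Nat.Prime 5) := ⟨by norm_num⟩
  exact orderOf_eq_prime m.u5_pow (m.ne_one_of_pt nu5')

theorem norm_u5 : m.wd n5 * m.wd u5 * (m.wd n5)⁻¹ = m.wd u5 ^ 2 := by
  rw [m.conj_of_cnj nu5, wd_append, pow_two]

theorem u7_pow : m.wd u7 ^ 7 = 1 := by
  have h := m.eq_of_eqB o7
  simp only [wd_append, wd_nil] at h
  simpa only [pow_succ, pow_zero, one_mul, mul_assoc] using h

theorem orderOf_u7 : orderOf (m.wd u7) = 7 := by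
  have h5 : Fact (Nat.Prime 7) := ⟨by norm_num⟩
  exact orderOf_eq_prime m.u7_pow (m.ne_one_of_pt nu7')

theorem norm_u7 : m.wd n7 * m.wd u7 * (m.wd n7)⁻¹ = m.wd u7 ^ 3 := by
  rw [m.conj_of_cnj nu7, wd_append, wd_append, pow_succ, pow_two, mul_assoc]

theorem u13_pow : m.wd u13 ^ 13 = 1 := by
  have h := m.eq_of_eqB o13
  simp only [wd_append, wd_nil] at h
  simpa only [pow_succ, pow_zero, one_mul, mul_assoc] using h

theorem orderOf_u13 : orderOf (m.wd u13) = 13 := by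
  have h5 : Fact (Nat.Prime 13) := ⟨by norm_num⟩
  exact orderOf_eq_prime m.u13_pow (m.ne_one_of_pt nu13')

theorem norm_u13 : m.wd n13 * m.wd u13 * (m.wd n13)⁻¹ = m.wd u13 ^ 4 := by
  rw [m.conj_of_cnj nu13]
  simp only [wd_append]
  simp only [pow_succ, pow_zero, one_mul, mul_assoc]

theorem y22_pow : m.wd wp11 ^ 22 = 1 := by
  have h := m.eq_of_eqB o22
  simp only [wd_append, wd_nil] at h
  simpa only [pow_succ, pow_zero, one_mul, mul_assoc] using h

theorem y22_two : m.wd wp11 ^ 2 ≠ 1 := by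
  have h := m.ne_one_of_pt nu22
  rwa [wd_append, ← pow_two] at h

theorem y22_eleven : m.wd wp11 ^ 11 ≠ 1 := by
  have h := m.ne_one_of_pt nu22'
  simp only [wd_append] at h
  simpa only [pow_succ, pow_zero, one_mul, mul_assoc] using h

theorem norm_y22 : m.wd n11 * m.wd wp11 * (m.wd n11)⁻¹ = m.wd wp11 ^ 3 := by
  rw [m.conj_of_cnj nu11, wd_append, wd_append, pow_succ, pow_two, mul_assoc]

theorem q5_spec {i : ℕ} (hi : i < 4) : m.wd (q5 i) * m.wd (q5 i) = 1 ∧ Commute (m.wd u5) (m.wd (q5 i)) ∧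
    Commute (m.wd n5) (m.wd (q5 i)) ∧ (i ≠ 3 → m.wd (q5 i) * m.wd (q5 (i + 1)) * m.wd (q5 i) =
      m.wd (q5 (i + 1)) * m.wd (q5 i) * m.wd (q5 (i + 1))) := by
  have h := cq5
  rw [List.all_eq_true] at h
  have h1 := h i (List.mem_range.2 hi)
  rw [Bool.and_eq_true, Bool.and_eq_true, Bool.and_eq_true, Bool.or_eq_true] at h1
  obtain ⟨h1, h2, h3, h4⟩ := h1
  have e1 := m.eq_of_eqB h1
  have e2 := m.eq_of_eqB h2
  have e3 := m.eq_of_eqB h3
  rw [wd_append, wd_nil] at e1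
  rw [wd_append, wd_append] at e2 e3
  refine ⟨e1, e2, e3, fun hne => ?_⟩
  rcases h4 with h4 | h4
  · exact absurd (Nat.eq_of_beq_eq_true h4) hne
  · have e4 := m.eq_of_eqB h4
    simp only [wd_append] at e4
    rw [mul_assoc, mul_assoc, e4]

theorem q5_comm {i j : ℕ} (hij : i + 1 < j) (hj : j < 4) : m.wd (q5 i) * m.wd (q5 j) = m.wd (q5 j) * m.wd (q5 i) := by
  have h := cm5
  rw [List.all_eq_true] at h
  have h1 := h i (List.mem_range.2 (by omega))
  rw [List.all_eq_true] at h1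
  have h2 := h1 j (List.mem_range.2 hj)
  rw [Bool.or_eq_true] at h2
  rcases h2 with h2 | h2
  · exfalso
    rw [Bool.not_eq_true'] at h2
    have h3 : Nat.ble (i + 2) j = true := by rw [Nat.ble_eq]; exact hij
    rw [h3] at h2
    exact Bool.false_ne_true h2.symm
  · have e := m.eq_of_eqB h2
    rwa [wd_append, wd_append] at e

theorem exists_phi5 : ∃ φ : Perm (Fin 5) →* G, Function.Injective φ ∧
    ∀ i : Fin 4, φ (swap i.castSucc i.succ) = m.wd (q5 i) :=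
  exists_inj' (n := 4) le_rfl (fun i => m.wd (q5 i)) (fun i hi => (m.q5_spec hi).1)
    (fun i hi => (m.q5_spec (by omega)).2.2.2 (by omega)) (fun i j h1 h2 => m.q5_comm h1 h2) (m.ne_of_pt ne5)

theorem q7_spec {i : ℕ} (hi : i < 2) : Commute (m.wd u7) (m.wd (q5 i)) ∧ Commute (m.wd n7) (m.wd (q5 i)) := by
  have h := cq7
  rw [List.all_eq_true] at h
  have h1 := h i (List.mem_range.2 hi)
  rw [Bool.and_eq_true] at h1
  have e2 := m.eq_of_eqB h1.1
  have e3 := m.eq_of_eqB h1.2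
  rw [wd_append, wd_append] at e2 e3
  exact ⟨e2, e3⟩

theorem exists_phi3 : ∃ φ : Perm (Fin 3) →* G, Function.Injective φ ∧
    ∀ i : Fin 2, φ (swap i.castSucc i.succ) = m.wd (q5 i) := by
  obtain ⟨φ, hφ⟩ := Cfsg.Agent.H440.TwoGen.Path.exists_hom 2 (fun i => m.wd (q5 i))
    (fun i hi => (m.q5_spec (by omega)).1) (fun i hi => (m.q5_spec (by omega)).2.2.2 (by omega)) (fun i j h1 h2 => by omega)
  refine ⟨φ, ?_, hφ⟩
  have s : ∀ i : Fin 2, φ (t3 i) = m.wd (q5 i) := hφ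
  have g1 : m.wd (q5 0) ≠ 1 := m.ne_one_of_pt ng5
  have f1 : m.wd (q5 1) ≠ 1 := m.ne_one_of_pt nf5
  have gf : m.wd (q5 0) ≠ m.wd (q5 1) := m.ne_of_pt ne5
  have gg : m.wd (q5 0) * m.wd (q5 0) = 1 := (m.q5_spec (by norm_num)).1
  have ff : m.wd (q5 1) * m.wd (q5 1) = 1 := (m.q5_spec (by norm_num)).1
  rw [injective_iff_map_eq_one]
  intro σ hσ
  rcases all3 σ with rfl | rfl | rfl | rfl | rfl | rfl
  · rfl
  · exact absurd ((s 0).symm.trans hσ) g1
  · exact absurd ((s 1).symm.trans hσ) f1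
  · exfalso
    rw [map_mul, s, s] at hσ
    exact gf (mul_right_cancel (hσ.trans ff.symm))
  · exfalso
    rw [map_mul, s, s] at hσ
    exact gf (mul_left_cancel (ff.trans hσ.symm)).symm
  · exfalso
    rw [map_mul, map_mul, s, s] at hσ
    apply f1
    have h1 : m.wd (q5 0) * (m.wd (q5 0) * m.wd (q5 1) * m.wd (q5 0)) * m.wd (q5 0) = m.wd (q5 1) := by
      calc m.wd (q5 0) * (m.wd (q5 0) * m.wd (q5 1) * m.wd (q5 0)) * m.wd (q5 0)
          = (m.wd (q5 0) * m.wd (q5 0)) * m.wd (q5 1) * (m.wd (q5 0) * m.wd (q5 0)) := by group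
        _ = m.wd (q5 1) := by rw [gg, one_mul, mul_one]
    have h2 : m.wd (q5 0) * m.wd (q5 1) * m.wd (q5 0) = 1 := hσ
    rw [← h1, h2, mul_one, gg]

end

section

variable {G : Type*} [Group G] (e : G ≃* Spor.Fi22) (m : Model G (TK e))

include m in
/-- **elements of order divisible by 5** -/
theorem isC_five {x : G} (hx : 5 ∣ orderOf x) : IsC x := by
  have I := inv_of_iso e
  have hfin := I.ctx.finite
  obtain ⟨φ, hinj, hφ⟩ := m.exists_phi5
  have hu := m.orderOf_u5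
  have hun := m.norm_u5
  refine isC_of_cent (Cfsg.Agent.H835.Five.conj_five I) hu ?_ hx
  intro c hc h5
  have hcu : ∀ σ, Commute (m.wd u5) (φ σ) := comm_of_path φ (fun i => by rw [hφ]; exact (m.q5_spec i.2).2.1)
  have hcn : ∀ σ, Commute (m.wd n5) (φ σ) := comm_of_path φ (fun i => by rw [hφ]; exact (m.q5_spec i.2).2.2.1)
  obtain ⟨i, hi, σ, rfl⟩ := cent_prod φ (by norm_num) hu hcu hinj cen5
    (by rw [Cfsg.Agent.H559.FiSpec.cent5 ⟨e⟩ hu]; rfl) hc
  have s : ∀ i : Fin 4, φ (s5 i) = m.wd (q5 i) := hφ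
  have h1 : ∀ σ, IsC (m.wd u5 * φ σ) := by
    intro σ
    obtain ⟨τ, hτ⟩ := cls5 σ
    refine IsC.of_conj (φ τ) ?_
    have e1 : φ τ * (m.wd u5 * φ σ) * (φ τ)⁻¹ = m.wd u5 * φ (τ * σ * τ⁻¹) := by
      rw [map_mul, map_mul, map_inv, ← mul_assoc, ← (hcu τ).eq]; group
    rw [e1]
    simp only [reps5, List.mem_cons, List.not_mem_nil, or_false] at hτ
    rcases hτ with h | h | h | h | h | h | h <;> rw [h]
    · rw [map_one, mul_one]; exact m.isC_of_crt cp5_0
    · simp only [s, ← wd_append]; exact m.isC_of_crt cp5_1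
    · simp only [map_mul, s, ← wd_append]; exact m.isC_of_crt cp5_2
    · simp only [map_mul, s, ← wd_append]; exact m.isC_of_crt cp5_3
    · simp only [map_mul, s, ← wd_append]; exact m.isC_of_crt cp5_4
    · simp only [map_mul, s, ← wd_append]; exact m.isC_of_crt cp5_5
    · simp only [map_mul, s, ← wd_append]; exact m.isC_of_crt cp5_6
  by_cases hi0 : i = 0
  · subst hi0
    rw [pow_zero, one_mul] at h5 ⊢
    rcases ord5 σ with h | h
    · have h2 : φ σ ^ 5 = 1 := by rw [← map_pow, h, map_one]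
      have h3 : φ σ ≠ 1 := by
        intro h3
        rw [h3, orderOf_one] at h5
        norm_num at h5
      obtain ⟨g, hg⟩ := Cfsg.Agent.H835.SylFive.conj_elem I h2 h3 m.u5_pow (m.ne_one_of_pt nu5')
      refine IsC.of_conj g ?_
      rw [hg]
      exact m.isC_of_crt cp5_0
    · exfalso
      have h2 : φ σ ^ 12 = 1 := by rw [← map_pow, h, map_one]
      have h3 := h5.trans (orderOf_dvd_of_pow_eq_one h2)
      norm_num at h3
  · have h2 : ∀ r, IsC (m.wd u5 ^ 2 ^ r * φ σ) := by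
      intro r
      have h3 := (h1 σ).conj (m.wd n5 ^ r)
      have h4 : m.wd n5 ^ r * (m.wd u5 * φ σ) * (m.wd n5 ^ r)⁻¹ = m.wd u5 ^ 2 ^ r * φ σ := by
        calc m.wd n5 ^ r * (m.wd u5 * φ σ) * (m.wd n5 ^ r)⁻¹
            = (m.wd n5 ^ r * m.wd u5 * (m.wd n5 ^ r)⁻¹) * (m.wd n5 ^ r * φ σ * (m.wd n5 ^ r)⁻¹) := by group
          _ = _ := by rw [conj_pow_pow hun, ((hcn σ).pow_left r).eq, mul_inv_cancel_right]
      rwa [h4] at h3
    have h3 : ∀ r j : ℕ, 2 ^ r ≡ j [MOD 5] → IsC (m.wd u5 ^ j * φ σ) := by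
      intro r j hj
      rw [← hu] at hj
      rw [← pow_eq_pow_iff_modEq.2 hj]
      exact h2 r
    interval_cases i
    · exact absurd rfl hi0
    · exact h3 0 _ rfl
    · exact h3 1 _ rfl
    · exact h3 3 _ rfl
    · exact h3 2 _ rfl

include m in
/-- **elements of order divisible by 7** -/
theorem isC_seven {x : G} (hx : 7 ∣ orderOf x) : IsC x := by
  have I := inv_of_iso e
  have hfin := I.ctx.finite
  obtain ⟨φ, hinj, hφ⟩ := m.exists_phi3
  have hu := m.orderOf_u7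
  have hun := m.norm_u7
  refine isC_of_cent (Cfsg.Agent.H836.Main.conj_all I (Or.inl rfl)) hu ?_ hx
  intro c hc h7
  have hcu : ∀ σ, Commute (m.wd u7) (φ σ) := comm_of_path φ (fun i => by rw [hφ]; exact (m.q7_spec i.2).1)
  have hcn : ∀ σ, Commute (m.wd n7) (φ σ) := comm_of_path φ (fun i => by rw [hφ]; exact (m.q7_spec i.2).2)
  obtain ⟨i, hi, σ, rfl⟩ := cent_prod φ (by norm_num) hu hcu hinj cen3
    (by rw [Cfsg.Agent.H559.FiSpec.cent7 ⟨e⟩ hu]; rfl) hc
  have s : ∀ i : Fin 2, φ (t3 i) = m.wd (q5 i) := hφ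
  have h1 : ∀ σ, IsC (m.wd u7 * φ σ) := by
    intro σ
    obtain ⟨τ, hτ⟩ := cls3 σ
    refine IsC.of_conj (φ τ) ?_
    have e1 : φ τ * (m.wd u7 * φ σ) * (φ τ)⁻¹ = m.wd u7 * φ (τ * σ * τ⁻¹) := by
      rw [map_mul, map_mul, map_inv, ← mul_assoc, ← (hcu τ).eq]; group
    rw [e1]
    rcases hτ with h | h | h <;> rw [h]
    · rw [map_one, mul_one]; exact m.isC_of_crt cp7_0
    · simp only [s, ← wd_append]; exact m.isC_of_crt cp7_1
    · simp only [map_mul, s, ← wd_append]; exact m.isC_of_crt cp7_2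
  by_cases hi0 : i = 0
  · subst hi0
    rw [pow_zero, one_mul] at h7 ⊢
    exfalso
    have h : ∀ σ : Perm (Fin 3), σ ^ 6 = 1 := by decide +kernel
    have h2 : φ σ ^ 6 = 1 := by rw [← map_pow, h, map_one]
    have h3 := h7.trans (orderOf_dvd_of_pow_eq_one h2)
    norm_num at h3
  · have h2 : ∀ r, IsC (m.wd u7 ^ 3 ^ r * φ σ) := by
      intro r
      have h3 := (h1 σ).conj (m.wd n7 ^ r)
      have h4 : m.wd n7 ^ r * (m.wd u7 * φ σ) * (m.wd n7 ^ r)⁻¹ = m.wd u7 ^ 3 ^ r * φ σ := by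
        calc m.wd n7 ^ r * (m.wd u7 * φ σ) * (m.wd n7 ^ r)⁻¹
            = (m.wd n7 ^ r * m.wd u7 * (m.wd n7 ^ r)⁻¹) * (m.wd n7 ^ r * φ σ * (m.wd n7 ^ r)⁻¹) := by group
          _ = _ := by rw [conj_pow_pow hun, ((hcn σ).pow_left r).eq, mul_inv_cancel_right]
      rwa [h4] at h3
    have h3 : ∀ r j : ℕ, 3 ^ r ≡ j [MOD 7] → IsC (m.wd u7 ^ j * φ σ) := by
      intro r j hj
      rw [← hu] at hj
      rw [← pow_eq_pow_iff_modEq.2 hj]
      exact h2 r
    interval_cases i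
    · exact absurd rfl hi0
    · exact h3 0 _ rfl
    · exact h3 2 _ rfl
    · exact h3 1 _ rfl
    · exact h3 4 _ rfl
    · exact h3 5 _ rfl
    · exact h3 3 _ rfl

include m in
/-- **elements of order divisible by 11** -/
theorem isC_eleven {x : G} (hx : 11 ∣ orderOf x) : IsC x := by
  have I := inv_of_iso e
  have hfin := I.ctx.finite
  set y := m.wd wp11 with hy
  have h22 : y ^ 22 = 1 := m.y22_pow
  have h11 : y ^ 11 ≠ 1 := m.y22_eleven
  have h2 : y ^ 2 ≠ 1 := m.y22_two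
  have hoy : orderOf y = 22 := by
    apply orderOf_eq_of_pow_and_pow_div_prime (by norm_num) h22
    intro p hp hd
    have hp' : p = 2 ∨ p = 11 := by
      have h1 : p ∈ Nat.primeFactors 22 := Nat.mem_primeFactors.2 ⟨hp, hd, by norm_num⟩
      have h3 : Nat.primeFactors 22 = {2, 11} := by decide +kernel
      rw [h3] at h1
      simpa using h1
    rcases hp' with rfl | rfl
    · exact h11
    · exact h2
  have hu : orderOf (y ^ 2) = 11 := by
    rw [orderOf_pow_of_dvd (by norm_num) (by rw [hoy]; norm_num), hoy]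
  refine isC_of_cent (Cfsg.Agent.H836.Main.conj_all I (Or.inr (Or.inl rfl))) hu ?_ hx
  intro c hc h11'
  have h1 : zpowers y = centralizer ({y ^ 2} : Set G) := by
    apply eq_of_le_of_card_ge
    · rw [zpowers_le, mem_centralizer_singleton_iff]
      exact ((Commute.refl y).pow_right 2).eq
    · rw [Cfsg.Agent.H559.FiSpec.cent11 ⟨e⟩ hu, Nat.card_zpowers, hoy]
  have hcz : c ∈ zpowers y := by
    rw [h1]; exact mem_centralizer_singleton_iff.2 hc.eq
  obtain ⟨j, hj⟩ : ∃ j : Fin 22, y ^ (j : ℕ) = c := by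
    rw [← mem_powers_iff_mem_zpowers] at hcz
    obtain ⟨k, hk⟩ := hcz
    refine ⟨⟨k % 22, Nat.mod_lt _ (by norm_num)⟩, ?_⟩
    rw [← hk]
    show y ^ (k % 22) = y ^ k
    rw [← hoy]
    exact pow_mod_orderOf y k
  obtain ⟨j, hjlt⟩ := j
  have hj' : y ^ j = c := hj
  subst hj'
  have hn : m.wd n11 * y * (m.wd n11)⁻¹ = y ^ 3 := m.norm_y22
  have hA : ∀ r, IsC (y ^ 3 ^ r) := by
    intro r
    rw [← conj_pow_pow hn]
    exact (m.isC_of_crt cp11).conj _
  have hA' : ∀ r j : ℕ, 3 ^ r ≡ j [MOD 22] → IsC (y ^ j) := by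
    intro r j hj
    rw [← hoy] at hj
    rw [← pow_eq_pow_iff_modEq.2 hj]
    exact hA r
  have hB' : ∀ r j : ℕ, 21 * 3 ^ r ≡ j [MOD 22] → IsC (y ^ j) := by
    intro r j hj
    rw [← hoy] at hj
    rw [← pow_eq_pow_iff_modEq.2 hj]
    have h3 : y ^ (21 * 3 ^ r) = (y ^ 3 ^ r)⁻¹ := by
      rw [eq_inv_iff_mul_eq_one, ← pow_add, show 21 * 3 ^ r + 3 ^ r = 22 * 3 ^ r by ring, pow_mul, h22, one_pow]
    rw [h3]
    exact (hA r).inv
  have hE : ∀ k : ℕ, IsC (y ^ (2 * k)) := by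
    intro k
    have h3 : m.wd n11 * y ^ k * (m.wd n11)⁻¹ = (y ^ k) ^ (3 : ℤ) := by
      rw [← conj_pow, hn, ← pow_mul, mul_comm 3 k, pow_mul]
      norm_cast
    have h4 := isC_zpow h3
    rwa [show (3 : ℤ) - 1 = (2 : ℕ) by norm_num, zpow_natCast, ← pow_mul, mul_comm k 2] at h4
  interval_cases j
  · exact hE 0
  · exact hA' 0 _ rfl
  · exact hE 1
  · exact hA' 1 _ rfl
  · exact hE 2
  · exact hA' 3 _ rfl
  · exact hE 3
  · exact hB' 4 _ rfl
  · exact hE 4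
  · exact hA' 2 _ rfl
  · exact hE 5
  · exfalso
    have h3 : (y ^ 11) ^ 2 = 1 := by rw [← pow_mul, h22]
    have h4 := h11'.trans (orderOf_dvd_of_pow_eq_one h3)
    norm_num at h4
  · exact hE 6
  · exact hB' 2 _ rfl
  · exact hE 7
  · exact hA' 4 _ rfl
  · exact hE 8
  · exact hB' 3 _ rfl
  · exact hE 9
  · exact hB' 1 _ rfl
  · exact hE 10
  · exact hB' 0 _ rfl

include m in
/-- **elements of order divisible by 13** -/
theorem isC_thirteen {x : G} (hx : 13 ∣ orderOf x) : IsC x := by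
  have I := inv_of_iso e
  have hfin := I.ctx.finite
  have hu := m.orderOf_u13
  refine isC_of_cent (Cfsg.Agent.H836.Main.conj_all I (Or.inr (Or.inr rfl))) hu ?_ hx
  intro c hc _
  have h1 : zpowers (m.wd u13) = centralizer ({m.wd u13} : Set G) := by
    apply eq_of_le_of_card_ge
    · rw [zpowers_le, mem_centralizer_singleton_iff]
    · rw [Cfsg.Agent.H559.FiSpec.cent13 ⟨e⟩ hu, Nat.card_zpowers, hu]
  have hcz : c ∈ zpowers (m.wd u13) := by
    rw [h1]; exact mem_centralizer_singleton_iff.2 hc.eq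
  obtain ⟨j, rfl⟩ := mem_zpowers_iff.1 hcz
  refine isC_zpow_of_norm (b := m.wd n13) (k := 4) (by rw [m.norm_u13]; norm_cast) m.u13_pow ?_ j
  exact ⟨-4, 1, by norm_num⟩

end

end Cfsg.Agent.H834.Model
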