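import Cfsg.Agent.H834.Main5475
import Cfsg.Agent.H3.Ore.Fi22Cert

/-!
# `Fi22`: the 3-elements up to conjugacy (helper3)

The elements of the Sylow 3-subgroup `P0 = A R0` of `H834` are conjugate (in `3^5 : W(E6)`) to 22 words.
-/

set_option autoImplicit false
set_option maxRecDepth 100000
set_option exponentiation.threshold 5000
set_option linter.style.longLine false
set_option linter.constructorNameAsVariable false

namespace Cfsg.Agent.H3.Ore.FR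

open Cfsg.Spor Cfsg.Spor.Fi22 Cfsg.Agent.Lib.PermNet Cfsg.Agent.Lib.PermNetOrbit Cfsg.Agent.Lib.PermNetFix
open Cfsg.Agent.Fischer Cfsg.Agent.Fischer.Fi22PtsRep
open Cfsg.Agent.H834 Cfsg.Agent.H834.AC Cfsg.Agent.H834.RC
open Cfsg.Agent.H3.Ore.FC
open Matrix

/-- digits to an index -/
def encd (a b c d e : ℕ) : ℕ := a % 3 + 3 * (b % 3) + 9 * (c % 3) + 27 * (d % 3) + 81 * (e % 3)

/-- the digits of an index -/
def dig (n : ℕ) : List ℕ := [n % 3, n / 3 % 3, n / 9 % 3, n / 27 % 3, n / 81 % 3]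

/-- the vector of an index -/
def vec (n : ℕ) : V5 := lv5 (dig n)

theorem vec_apply (n : ℕ) : vec n = ![((n % 3 : ℕ) : ZMod 3), ((n / 3 % 3 : ℕ) : ZMod 3), ((n / 9 % 3 : ℕ) : ZMod 3),
    ((n / 27 % 3 : ℕ) : ZMod 3), ((n / 81 % 3 : ℕ) : ZMod 3)] := by
  ext k
  fin_cases k <;> rfl

theorem vec_encd (a b c d e : ℕ) : vec (encd a b c d e) = ![(a : ZMod 3), b, c, d, e] := by
  have e0 : encd a b c d e % 3 = a % 3 := by unfold encd; omega
  have e1 : encd a b c d e / 3 % 3 = b % 3 := by unfold encd; omega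
  have e2 : encd a b c d e / 9 % 3 = c % 3 := by unfold encd; omega
  have e3 : encd a b c d e / 27 % 3 = d % 3 := by unfold encd; omega
  have e4 : encd a b c d e / 81 % 3 = e % 3 := by unfold encd; omega
  rw [vec_apply, e0, e1, e2, e3, e4]
  simp only [ZMod.natCast_mod]

theorem encd_lt (a b c d e : ℕ) : encd a b c d e < 243 := by unfold encd; omega

theorem exists_vec (v : V5) : ∃ n < 243, vec n = v := by
  refine ⟨encd (v 0).val (v 1).val (v 2).val (v 3).val (v 4).val, encd_lt _ _ _ _ _, ?_⟩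
  rw [vec_encd]
  ext k
  fin_cases k <;> simp

/-- addition of indices -/
def addN (n k : ℕ) : ℕ :=
  encd (n % 3 + k % 3) (n / 3 % 3 + k / 3 % 3) (n / 9 % 3 + k / 9 % 3) (n / 27 % 3 + k / 27 % 3) (n / 81 % 3 + k / 81 % 3)

theorem vec_addN (n k : ℕ) : vec (addN n k) = vec n + vec k := by
  unfold addN
  rw [vec_encd, vec_apply, vec_apply]
  ext j
  fin_cases j <;> simp

/-- negation of indices -/
def negN (n : ℕ) : ℕ := encd (2 * (n % 3)) (2 * (n / 3 % 3)) (2 * (n / 9 % 3)) (2 * (n / 27 % 3)) (2 * (n / 81 % 3))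

theorem vec_negN (n : ℕ) : vec (negN n) = -vec n := by
  have h2 : (2 : ZMod 3) = -1 := by decide
  unfold negN
  rw [vec_encd, vec_apply]
  ext j
  fin_cases j <;> simp [h2]

/-- one coordinate of the image -/
def dot (l : List (List ℕ)) (n k : ℕ) : ℕ :=
  n % 3 * (l.getD 0 []).getD k 0 + n / 3 % 3 * (l.getD 1 []).getD k 0 + n / 9 % 3 * (l.getD 2 []).getD k 0 +
    n / 27 % 3 * (l.getD 3 []).getD k 0 + n / 81 % 3 * (l.getD 4 []).getD k 0

/-- the action of a generator on indices -/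
def ap1 (g : Gen) (n : ℕ) : ℕ := encd (dot (im g) n 0) (dot (im g) n 1) (dot (im g) n 2) (dot (im g) n 3) (dot (im g) n 4)

theorem ap1_lt (g : Gen) (n : ℕ) : ap1 g n < 243 := encd_lt _ _ _ _ _

theorem chk_ap : ([Gen.b, .c, .d, .e, .f, .h, .i].all fun g => (List.range 243).all fun n =>
    decide (vec n - bf (root g) (vec n) • root g = vec (ap1 g n))) = true := by
  decide +kernel


/-- the seven generators of `3^5 : W(E6)` -/
def gs : List Gen := [.b, .c, .d, .e, .f, .h, .i]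

/-- letters of `3^5 : W(E6)` -/
def ok7 : Gen → Bool
  | .a => false
  | .g => false
  | _ => true

/-- the action of a word on indices -/
def apw (w : List Gen) (n : ℕ) : ℕ := w.foldr ap1 n

/-- representatives of the 3-elements of `W(E6)` -/
def rho (j : ℕ) : List Gen :=
  [[], [.c, .d], [.e, .f, .h, .i], [.c, .d, .c, .e, .d, .f, .h, .i], [.c, .d, .c, .e, .d, .c, .f, .e, .h, .d, .c, .e, .d, .f, .h, .i, .h, .d, .c, .e, .d, .f, .h, .i]].getD j []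

/-- the checks of a list of words -/
noncomputable def chkWB : List (List Gen × ℕ) → ℕ → Bool :=
  List.rec (motive := fun _ => ℕ → Bool) (fun _ => true) (fun x _ ih n =>
    and (and (cnj x.1 (yword n) (rho x.2)) (and (x.1.all ok7) (Nat.blt x.2 5))) (ih (Nat.succ n)))

/-- words conjugating the elements of `R0` to the representatives -/
def wl0 : List (List Gen × ℕ) := [
  ([], 0),
  ([.e, .f, .h, .d, .c, .e, .d, .i, .h, .d, .c, .e, .d], 1),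
  ([.c, .e, .f, .h, .d, .c, .e, .d, .i, .h, .d, .c, .e, .d], 1),
  ([.c, .e, .d, .c, .f, .e, .d], 1),
  ([.d, .c, .f, .h, .d, .c, .e, .f, .i, .h, .d, .c, .e, .d], 2),
  ([.d, .c, .h, .d, .c, .e, .f, .i, .h, .d, .c, .e, .d], 2),
  ([.e, .d, .c, .f, .e, .d], 1),
  ([.d, .c, .f, .h, .d, .e, .f, .i, .h, .d, .c, .e, .d], 2),
  ([.d, .c, .h, .d, .e, .f, .i, .h, .d, .c, .e, .d], 2)]

theorem chkW0 : chkWB wl0 0 = true := by decide +kernel

/-- words conjugating the elements of `R0` to the representatives -/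
def wl1 : List (List Gen × ℕ) := [
  ([.c, .h, .d, .c, .i, .h, .d], 1),
  ([.d, .c, .e, .d, .c, .f, .e, .h, .d, .c, .i, .h, .d, .c], 2),
  ([.d, .c, .e, .d, .c, .f, .e, .h, .d, .c, .i, .h, .d], 2),
  ([.e, .h], 2),
  ([.d, .e, .d, .h], 4),
  ([.d, .e, .d, .c, .h], 4),
  ([.h], 2),
  ([.e, .d, .h], 4),
  ([.e, .d, .c, .h], 4)]

theorem chkW1 : chkWB wl1 9 = true := by decide +kernel

/-- words conjugating the elements of `R0` to the representatives -/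
def wl2 : List (List Gen × ℕ) := [
  ([.h, .d, .c, .i, .h, .d], 1),
  ([.d, .c, .e, .d, .f, .e, .h, .d, .c, .i, .h, .d, .c], 2),
  ([.d, .c, .e, .d, .f, .e, .h, .d, .c, .i, .h, .d], 2),
  ([.e], 2),
  ([.d, .e, .d], 4),
  ([.d, .e, .d, .c], 4),
  ([], 2),
  ([.e, .d], 4),
  ([.e, .d, .c], 4)]

theorem chkW2 : chkWB wl2 18 = true := by decide +kernel

/-- words conjugating the elements of `R0` to the representatives -/
def wl3 : List (List Gen × ℕ) := [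
  ([.d, .c, .e, .d, .h, .i, .h, .d, .e, .f], 2),
  ([.d, .h, .d, .c, .e, .d, .f, .i], 3),
  ([.d, .e, .h, .d, .c, .e, .d, .f, .e, .i, .h], 3),
  ([.d, .c, .h, .d, .c, .e, .d, .f, .e, .h, .i, .h], 3),
  ([.d, .e, .h, .d, .c, .e, .d], 3),
  ([.d, .c, .e, .d, .i, .h, .d, .c, .e], 2),
  ([.d, .c, .e, .f, .e, .d, .c, .h, .i, .h, .d], 3),
  ([.d, .c, .e, .i, .h, .d], 2),
  ([.d, .c, .h, .d, .c, .e, .d, .h], 3)]

theorem chkW3 : chkWB wl3 27 = true := by decide +kernel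

/-- words conjugating the elements of `R0` to the representatives -/
def wl4 : List (List Gen × ℕ) := [
  ([.d, .h, .d, .c, .e, .d, .f, .h, .i, .h], 3),
  ([.d, .e, .h, .d, .c, .e, .d, .f, .e], 3),
  ([.d, .c, .e, .h, .d, .i, .h, .d, .e, .f], 2),
  ([.d, .e, .h, .d, .c, .e, .d, .h, .i], 3),
  ([.d, .c, .e, .f, .i, .h, .d, .e], 2),
  ([.d, .c, .h, .d, .c, .e, .d, .f, .e, .h], 3),
  ([.d, .c, .e, .d, .h, .i, .h, .d], 2),
  ([.d, .c, .h, .d, .c, .e, .d, .i], 3),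
  ([.d, .c, .e, .h, .d, .c, .e, .d, .f, .i, .h], 3)]

theorem chkW4 : chkWB wl4 36 = true := by decide +kernel

/-- words conjugating the elements of `R0` to the representatives -/
def wl5 : List (List Gen × ℕ) := [
  ([.d, .e, .h, .d, .c, .e, .d, .f, .e, .h, .i], 3),
  ([.d, .c, .e, .i, .h, .d, .e, .f], 2),
  ([.d, .h, .d, .c, .e, .d, .f, .h], 3),
  ([.d, .c, .e, .d, .f, .h, .i, .h, .d, .e], 2),
  ([.d, .c, .h, .d, .c, .e, .d, .f, .e, .i], 3),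
  ([.d, .e, .h, .d, .c, .e, .d, .i, .h], 3),
  ([.d, .c, .h, .d, .c, .e, .d, .h, .i, .h], 3),
  ([.d, .c, .e, .h, .d, .c, .e, .d, .f], 3),
  ([.d, .c, .e, .h, .d, .i, .h, .d], 2)]

theorem chkW5 : chkWB wl5 45 = true := by decide +kernel

/-- words conjugating the elements of `R0` to the representatives -/
def wl6 : List (List Gen × ℕ) := [
  ([.d, .c, .e, .d, .c, .h, .d, .e, .f, .i], 2),
  ([.c, .e, .d, .f, .e, .d, .c, .h, .d, .i], 3),
  ([.c, .e, .d, .f, .e, .d, .c, .h, .d, .c, .e, .i, .h], 3),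
  ([.c, .e, .d, .f, .e, .d, .c, .h, .d, .e, .f, .i], 3),
  ([.c, .d, .e, .d, .f, .e, .d, .c, .h, .d, .c, .i, .h], 3),
  ([.d, .c, .e, .d, .c, .f, .h, .d, .e, .i], 2),
  ([.c, .d, .f, .h, .d, .c, .e, .d, .f, .h, .i, .h, .d], 3),
  ([.d, .c, .e, .d, .c, .h, .d, .i], 2),
  ([.c, .d, .e, .d, .f, .e, .d, .c, .h, .d, .e, .i], 3)]

theorem chkW6 : chkWB wl6 54 = true := by decide +kernel

/-- words conjugating the elements of `R0` to the representatives -/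
def wl7 : List (List Gen × ℕ) := [
  ([.c, .d, .f, .h, .d, .c, .e, .d, .f, .i, .h, .d, .c, .e], 3),
  ([.c, .d, .e, .d, .f, .e, .d, .c, .h, .d, .c], 3),
  ([.d, .c, .e, .d, .c, .h, .d, .c, .e], 2),
  ([.c, .f, .h, .d, .c, .e, .d, .f, .i, .h, .d], 3),
  ([.d, .c, .f, .e, .h, .d, .i, .h], 2),
  ([.c, .d, .f, .h, .d, .c, .e, .d, .i, .h, .d, .c], 3),
  ([.d, .c, .f, .e, .h, .d, .e, .f, .i, .h], 2),
  ([.c, .e, .d, .c, .f, .e, .d, .c, .h, .d, .i, .h], 3),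
  ([.c, .e, .d, .f, .e, .d, .c, .h, .d, .c, .e], 3)]

theorem chkW7 : chkWB wl7 63 = true := by decide +kernel

/-- words conjugating the elements of `R0` to the representatives -/
def wl8 : List (List Gen × ℕ) := [
  ([.c, .d, .f, .h, .d, .c, .e, .f, .i, .h, .d], 3),
  ([.d, .c, .f, .e, .h, .d], 2),
  ([.c, .e, .d, .c, .i, .h, .d, .c, .e, .d], 3),
  ([.d, .c, .f, .e, .h, .d, .e, .f], 2),
  ([.c, .e, .d, .c, .f, .e, .d, .c, .h, .d], 3),
  ([.c, .d, .e, .d, .h, .i, .h, .d, .c, .e, .d, .f, .e], 3),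
  ([.c, .e, .d, .c, .f, .e, .d, .c, .h, .d, .e, .f], 3),
  ([.c, .d, .e, .d, .h, .i, .h, .d, .c, .e, .d], 3),
  ([.d, .c, .e, .f, .e, .h, .d, .e], 2)]

theorem chkW8 : chkWB wl8 72 = true := by decide +kernel

/-- elements of `W(E6)` commuting with `rho 1` -/
def cl1 : List (List Gen) := [
  [],
  [.c, .e, .d, .c, .i, .h, .d, .c, .e, .d, .h],
  [.d, .e, .d, .c, .h, .d, .c, .e, .d, .h, .i],
  [.h, .d, .c, .e, .d, .h, .i, .h, .d, .c, .e, .d, .h, .i],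
  [.d, .e, .d, .c, .h, .d, .c, .e, .d, .f, .h],
  [.d, .e, .d, .c, .h, .d, .c, .e, .d, .f, .h, .i],
  [.e, .d, .c, .f, .e, .d, .h, .d, .c, .e, .d, .f, .e],
  [.h, .d, .c, .e, .d, .h, .i, .h, .d, .c, .e, .d, .f, .h],
  [.e, .d, .c, .f, .e, .d, .h, .d, .c, .e, .d, .f, .e, .i],
  [.d, .h, .d, .c, .e, .d, .f, .e, .h, .d, .i, .h, .d, .c, .e, .d, .f, .e],
  [.d, .e, .d, .c, .f, .e, .d, .h, .d, .e, .f, .i, .h, .d, .c, .e, .d, .h],
  [.d, .h, .d, .c, .e, .d, .f, .e, .h, .d, .c, .i, .h, .d, .c, .e, .d, .f, .e],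
  [.d, .e, .d, .c, .f, .e, .d, .h, .d, .e, .f, .i, .h, .d, .c, .e, .d, .h, .i],
  [.e, .d, .c, .h, .d, .c, .e, .d, .f, .e, .h, .d, .c, .i, .h, .d, .c, .e, .d, .h],
  [.e, .d, .c, .h, .d, .c, .e, .d, .f, .e, .h, .d, .c, .i, .h, .d, .c, .e, .d, .h, .i],
  [.e, .d, .c, .h, .d, .c, .e, .d, .f, .e, .h, .d, .c, .i, .h, .d, .c, .e, .d, .f, .h],
  [.e, .d, .c, .h, .d, .c, .e, .d, .f, .e, .h, .d, .c, .i, .h, .d, .c, .e, .d, .f, .h, .i],
  [.c, .e, .d, .c, .f, .e, .d, .h, .d, .c, .e, .d, .f, .e, .h, .d, .c, .i, .h, .d, .c, .e, .d, .f, .e, .h, .d, .c, .i, .h, .d, .e]]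

def sl1 : List ℕ := [
  0, 0, 4136, 1, 1, 4138, 2, 2, 4131, 4, 4, 4135, 5, 5,
  4137, 3, 3, 4133, 8, 8, 4134, 6, 6, 4139, 7, 7, 4132, 2187,
  0, 733, 2195, 1, 734, 2191, 2, 732, 2192, 4, 737, 2188, 5, 735,
  2193, 3, 736, 2194, 8, 729, 2190, 6, 730, 2189, 7, 731, 1706, 2681,
  733, 1704, 2677, 734, 1705, 2673, 732, 1707, 2674, 737, 1708, 2679, 735, 1709,
  2678, 736, 1702, 2676, 729, 1703, 2675, 730, 1701, 2680, 731, 2430, 244, 1462,
  2438, 246, 1463, 2434, 251, 1461, 2435, 243, 1466, 2431, 248, 1464, 2436, 250,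
  1465, 2437, 245, 1458, 2433, 247, 1459, 2432, 249, 1460, 3167, 249, 0, 3165,
  245, 1, 3166, 247, 2, 3159, 251, 4, 3160, 244, 5, 3161, 246, 3,
  3163, 250, 8, 3164, 243, 6, 3162, 248, 7, 244, 3651, 979, 246, 3652,
  975, 251, 3653, 974, 243, 3646, 972, 248, 3647, 980, 250, 3645, 976, 245,
  3650, 977, 247, 3648, 973, 249, 3649, 978, 1949, 2924, 486, 1947, 2920, 494,
  1948, 2916, 490, 1950, 2917, 491, 1951, 2922, 487, 1952, 2921, 492, 1945, 2919,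
  493, 1946, 2918, 489, 1944, 2923, 488, 490, 3408, 493, 486, 3409, 489, 494,
  3410, 488, 492, 3403, 486, 491, 3404, 494, 487, 3402, 490, 488, 3407, 491,
  493, 3405, 487, 489, 3406, 492, 1218, 734, 3895, 1217, 732, 3896, 1222, 733,
  3894, 1223, 735, 3890, 1219, 736, 3888, 1215, 737, 3889, 1216, 730, 3891, 1221,
  731, 3892, 1220, 729, 3893]

def rl1 : List ℕ := [0, 1, 28, 110]

/-- elements of `W(E6)` commuting with `rho 2` -/
def cl2 : List (List Gen) := [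
  [],
  [.c],
  [.f, .e],
  [.i, .h],
  [.c, .e, .f],
  [.c, .f, .e],
  [.d, .e, .d, .f, .h, .d, .e, .f, .i, .h, .d],
  [.d, .e, .d, .f, .h, .d, .e, .i, .h, .d, .e],
  [.d, .e, .f, .e, .h, .d, .e, .f, .i, .h, .d],
  [.d, .e, .f, .e, .h, .d, .e, .i, .h, .d, .c, .e],
  [.d, .e, .f, .e, .h, .d, .e, .f, .i, .h, .d, .c],
  [.d, .e, .d, .f, .h, .d, .e, .i, .h, .d, .c, .e],
  [.c, .d, .e, .f, .e, .h, .d, .e, .f, .i, .h, .d],
  [.c, .d, .e, .d, .f, .h, .d, .e, .i, .h, .d, .e],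
  [.c, .d, .e, .d, .f, .h, .d, .e, .f, .i, .h, .d],
  [.d, .e, .f, .h, .d, .c, .e, .d, .h, .i, .h, .d, .c, .e, .d, .f, .e, .h, .d],
  [.d, .e, .d, .f, .e, .h, .d, .c, .e, .d, .h, .i, .h, .d, .c, .e, .d, .f, .e, .h, .d],
  [.d, .e, .f, .e, .d, .h, .d, .c, .e, .d, .h, .i, .h, .d, .c, .e, .d, .f, .e, .h, .d]]

def sl2 : List ℕ := [
  0, 0, 270, 54, 243, 54, 297, 27, 27, 0, 270, 3672, 243, 3645,
  54, 3699, 27, 297, 1530, 3420, 2223, 3447, 2250, 1476, 2196, 1503, 3474, 0,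
  0, 270, 54, 243, 54, 297, 27, 27, 486, 1242, 4158, 1215, 4131, 540,
  4185, 513, 1269, 2007, 2925, 2439, 2952, 2466, 1953, 2493, 1980, 2979, 0, 0,
  270, 54, 243, 54, 297, 27, 27, 774, 972, 3888, 1026, 3942, 747, 3915,
  801, 999, 1773, 3177, 2691, 3204, 2718, 1719, 2745, 1746, 3231, 9, 9, 279,
  63, 252, 63, 306, 36, 36, 729, 1008, 3924, 981, 3897, 783, 3951, 756,
  1035, 1764, 3168, 2682, 3195, 2709, 1710, 2736, 1737, 3222, 9, 9, 279, 63,
  252, 63, 306, 36, 36, 9, 279, 3681, 252, 3654, 63, 3708, 36, 306,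
  1494, 3465, 2241, 3411, 2187, 1521, 2214, 1467, 3438, 9, 9, 279, 63, 252,
  63, 306, 36, 36, 549, 1224, 4140, 1278, 4194, 522, 4167, 495, 1251, 1998,
  2916, 2430, 2943, 2457, 1944, 2484, 1971, 2970, 18, 18, 288, 72, 261, 72,
  315, 45, 45, 531, 1287, 4203, 1260, 4176, 504, 4149, 558, 1233, 2016, 2934,
  2448, 2961, 2475, 1962, 2502, 1989, 2988, 18, 18, 288, 72, 261, 72, 315,
  45, 45, 792, 1044, 3960, 1017, 3933, 765, 3906, 738, 990, 1755, 3159, 2673,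
  3186, 2700, 1701, 2727, 1728, 3213, 18, 18, 288, 72, 261, 72, 315, 45,
  45, 18, 288, 3690, 261, 3663, 72, 3717, 45, 315, 1458, 3429, 2205, 3456,
  2232, 1485, 2259, 1512, 3402]

def rl2 : List ℕ := [0, 1, 9, 27, 28, 54, 55]

/-- elements of `W(E6)` commuting with `rho 3` -/
def cl3 : List (List Gen) := [
  []]

def sl3 : List ℕ := [
  0, 0, 0, 58, 58, 58, 35, 35, 35, 33, 33, 33, 1, 1,
  1, 59, 59, 59, 57, 57, 57, 34, 34, 34, 2, 2, 2, 61,
  61, 61, 29, 29, 29, 3, 3, 3, 4, 4, 4, 62, 62, 62,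
  27, 27, 27, 28, 28, 28, 5, 5, 5, 60, 60, 60, 32, 32,
  32, 6, 6, 6, 55, 55, 55, 56, 56, 56, 30, 30, 30, 7,
  7, 7, 8, 8, 8, 54, 54, 54, 31, 31, 31, 44, 44, 44,
  9, 9, 9, 67, 67, 67, 68, 68, 68, 42, 42, 42, 10, 10,
  10, 11, 11, 11, 66, 66, 66, 43, 43, 43, 12, 12, 12, 70,
  70, 70, 38, 38, 38, 36, 36, 36, 13, 13, 13, 71, 71, 71,
  69, 69, 69, 37, 37, 37, 14, 14, 14, 64, 64, 64, 41, 41,
  41, 15, 15, 15, 16, 16, 16, 65, 65, 65, 39, 39, 39, 40,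
  40, 40, 17, 17, 17, 63, 63, 63, 76, 76, 76, 53, 53, 53,
  18, 18, 18, 19, 19, 19, 77, 77, 77, 51, 51, 51, 52, 52,
  52, 20, 20, 20, 75, 75, 75, 47, 47, 47, 21, 21, 21, 79,
  79, 79, 80, 80, 80, 45, 45, 45, 22, 22, 22, 23, 23, 23,
  78, 78, 78, 46, 46, 46, 24, 24, 24, 73, 73, 73, 50, 50,
  50, 48, 48, 48, 25, 25, 25, 74, 74, 74, 72, 72, 72, 49,
  49, 49, 26, 26, 26]

def rl3 : List ℕ := [0, 1, 2]

/-- elements of `W(E6)` commuting with `rho 4` -/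
def cl4 : List (List Gen) := [
  [],
  [.c, .d, .h, .d],
  [.d, .h, .d, .c],
  [.c, .d, .e, .f, .e, .h],
  [.c, .e, .d, .h, .d, .i],
  [.d, .c, .f, .h, .d, .c, .e, .f],
  [.d, .f, .h, .d, .c, .e, .d, .f],
  [.c, .d, .c, .e, .d, .f, .h, .i],
  [.c, .d, .f, .e, .h, .d, .e, .f],
  [.c, .d, .h, .i, .h, .d, .c, .e],
  [.d, .h, .d, .c, .e, .d, .i, .h, .d, .e],
  [.h, .d, .c, .e, .d, .f, .e, .h, .d, .i],
  [.c, .d, .c, .e, .d, .h, .d, .e, .f, .i],
  [.c, .d, .e, .f, .h, .d, .i, .h, .d, .e],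
  [.c, .d, .e, .h, .d, .e, .i, .h, .d, .e],
  [.d, .f, .h, .d, .c, .e, .f, .i, .h, .d, .c, .e],
  [.d, .c, .h, .d, .i, .h, .d, .c, .e, .d, .f, .e],
  [.d, .c, .f, .h, .d, .c, .i, .h, .d, .c, .e, .d],
  [.d, .c, .e, .d, .h, .d, .e, .f, .i, .h, .d, .c],
  [.c, .d, .c, .f, .e, .h, .d, .c, .e, .d, .f, .h],
  [.c, .d, .c, .h, .d, .c, .e, .d, .f, .e, .h, .i],
  [.c, .d, .e, .f, .e, .h, .d, .i, .h, .d, .c, .e],
  [.c, .d, .e, .f, .h, .d, .e, .f, .i, .h, .d, .e],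
  [.c, .d, .h, .d, .e, .i, .h, .d, .c, .e, .d, .h]]

def sl4 : List ℕ := [
  0, 0, 3646, 4861, 486, 4139, 5346, 249, 1703, 5590, 0, 4377, 2188, 1458,
  3896, 3410, 734, 2924, 5103, 4620, 0, 2681, 1222, 2434, 3159, 1950, 974, 1945,
  975, 3163, 4622, 1, 5104, 1220, 2432, 2676, 244, 1706, 5350, 1, 3645, 1,
  493, 4136, 4868, 735, 2918, 3402, 1, 4378, 5589, 1465, 3893, 2194, 3890, 2191,
  1463, 2921, 3406, 730, 4379, 5591, 2, 2436, 2674, 1215, 979, 3167, 1949, 2,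
  5105, 4621, 4133, 4863, 491, 1709, 5354, 248, 3647, 2, 2, 2675, 1218, 2435,
  3162, 1948, 973, 5106, 4619, 3, 4862, 489, 4134, 5348, 243, 1708, 3, 3,
  3651, 2195, 1459, 3888, 3405, 733, 2917, 5597, 3, 4382, 4, 4380, 5596, 1466,
  3894, 2192, 737, 2920, 3409, 4618, 4, 5107, 1216, 2430, 2679, 1952, 977, 3166,
  4, 3653, 4, 487, 4131, 4866, 247, 1702, 5349, 1705, 5353, 251, 3652, 5,
  5, 4137, 4864, 494, 2923, 3404, 729, 4381, 5595, 5, 3891, 2189, 1461, 978,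
  3161, 1944, 5, 5108, 4617, 2437, 2677, 1223, 3403, 732, 2919, 5592, 6, 4375,
  2190, 1460, 3892, 3165, 1946, 972, 5109, 4624, 6, 2678, 1217, 2433, 5347, 246,
  1704, 6, 6, 3650, 4860, 492, 4132, 490, 4138, 4867, 250, 1707, 5351, 7,
  3649, 7, 1464, 3889, 2187, 736, 2922, 3407, 7, 4376, 5594, 1221, 2431, 2673,
  1947, 976, 3160, 4623, 7, 5110, 8, 5111, 4625, 2438, 2680, 1219, 980, 3164,
  1951, 3648, 8, 8, 4135, 4865, 488, 1701, 5352, 245, 4374, 5593, 8, 3895,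
  2193, 1462, 2916, 3408, 731]

def rl4 : List ℕ := [0, 1, 10, 20]

/-- the check of one index -/
def chk1 (cl : List (List Gen)) (sl rl : List ℕ) (r : List Gen) (n : ℕ) : Bool :=
  rl.elem (addN (addN (sl.getD n 0 % 243) (apw (cl.getD (sl.getD n 0 / 243) []) n)) (negN (apw r (sl.getD n 0 % 243))))

/-- all checks of a representative -/
noncomputable def chkJ (cl : List (List Gen)) (sl rl : List ℕ) (r : List Gen) : Bool :=
  and ((List.range 243).all fun n => chk1 cl sl rl r n) (and (r.all ok7) (cl.all fun c => and (c.all ok7) (eqB (c ++ r) (r ++ c))))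

theorem chkJ1 : chkJ cl1 sl1 rl1 (rho 1) = true := by decide +kernel

theorem chkJ2 : chkJ cl2 sl2 rl2 (rho 2) = true := by decide +kernel

theorem chkJ3 : chkJ cl3 sl3 rl3 (rho 3) = true := by decide +kernel

theorem chkJ4 : chkJ cl4 sl4 rl4 (rho 4) = true := by decide +kernel

end Cfsg.Agent.H3.Ore.FR
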